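import Groth.Agent.Sga4h.H914.Conn
import Groth.Agent.Sga4h.H179.Final

/-!
# The Lefschetz fixed point formula, modulo Künneth
-/

set_option autoImplicit false

universe u

open CategoryTheory CategoryTheory.Limits AlgebraicGeometry Opposite

namespace Groth.Agent.Sga4h.H914.Final

/-- **The Lefschetz fixed point formula**, from the Künneth formula. -/
theorem main (k : Type u) [Field k] [IsAlgClosed k]
    (hK : ∀ (ℓ : ℕ) [Fact ℓ.Prime] {X : Scheme.{u}} (p : X ⟶ Spec (CommRingCat.of k)) [IsProper p] (n : ℕ),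
      Function.Bijective (EtSix.crossSum (ULift.{u + 1} (ZMod ℓ)) p p
        (EtModW.constMod (ULift.{u + 1} (ZMod ℓ)) X (ULift.{u + 1} (ZMod ℓ)))
        (EtModW.constMod (ULift.{u + 1} (ZMod ℓ)) X (ULift.{u + 1} (ZMod ℓ))) n))
    (Λ : Type) [Field Λ] [Finite Λ] (hΛ : (ringChar Λ : k) ≠ 0) [Fact FinFr.PullExact.{u}]
    {X : Scheme.{u}} (p : X ⟶ Spec (CommRingCat.of k)) [IsProper p] [Smooth p]
    (f : X ⟶ X) (hf : f ≫ p = p) [IsFinite (FinFr.fixSchemeTo p f hf)] :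
    ∑ᶠ i : ℕ, (-1 : Λ) ^ i * LinearMap.trace Λ _ (FinFr.endConst (Λ := Λ) f i) =
      (FinFr.fixCount p f hf : Λ) := by
  refine H179.Final.main k (fun l hl hlk {X} d p _ _ _ f hf _ => ?_) Λ hΛ p f hf
  have : Fact l.Prime := ⟨hl⟩
  exact (Fixpt.H902.MXBridge.lefNum_endo (Λ := ULift.{u + 1} (ZMod l)) f).symm.trans
    (Conn.lefNum l hlk p d (hK l p) f hf)

end Groth.Agent.Sga4h.H914.Final
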