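import Groth.Agent.Sga4h.H914.ExtExact

/-!
# Graded commutativity: transport along an isomorphism
-/

set_option autoImplicit false

universe w v u

open CategoryTheory CategoryTheory.Limits CategoryTheory.Abelian

namespace Groth.Agent.Sga4h.H914.CommAbs

open ExtExact

variable {A : Type u} [Category.{v} A] [Abelian A] [HasExt.{w} A]

theorem mk₀_comp_injective {U V W : A} (u : V ⟶ U) [IsIso u] (n : ℕ) (x y : Ext.{w} U W n)
    (h : (Ext.mk₀ u).comp x (zero_add n) = (Ext.mk₀ u).comp y (zero_add n)) : x = y := by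
  have h1 := congrArg (fun t => (Ext.mk₀ (inv u)).comp t (zero_add n)) h
  simpa using h1

/-- Transport of a commutation relation along an isomorphism. -/
theorem comm_core {U V : A} (u : V ⟶ U) [IsIso u] {m n k : ℕ} (h₁ : m + n = k) (h₂ : n + m = k)
    (s : ℤ) (x : Ext.{w} U U m) (y : Ext.{w} U U n)
    (x' : Ext.{w} V V m) (y' : Ext.{w} V V n)
    (hx : x'.comp (Ext.mk₀ u) (add_zero m) = (Ext.mk₀ u).comp x (zero_add m))
    (hy : y'.comp (Ext.mk₀ u) (add_zero n) = (Ext.mk₀ u).comp y (zero_add n))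
    (h : x'.comp y' h₁ = s • (y'.comp x' h₂)) :
    x.comp y h₁ = s • (y.comp x h₂) := by
  apply mk₀_comp_injective u
  have e1 : (Ext.mk₀ u).comp (x.comp y h₁) (zero_add k) =
      (x'.comp y' h₁).comp (Ext.mk₀ u) (add_zero k) := by
    rw [Ext.comp_assoc_of_third_deg_zero, hy, ← Ext.comp_assoc_of_second_deg_zero, hx,
      Ext.comp_assoc _ _ _ _ _ (by omega)]
  have e2 : (Ext.mk₀ u).comp (y.comp x h₂) (zero_add k) =
      (y'.comp x' h₂).comp (Ext.mk₀ u) (add_zero k) := by
    rw [Ext.comp_assoc_of_third_deg_zero, hx, ← Ext.comp_assoc_of_second_deg_zero, hy,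
      Ext.comp_assoc _ _ _ _ _ (by omega)]
  rw [e1, comp_zsmul, e2, h, zsmul_comp]

end Groth.Agent.Sga4h.H914.CommAbs
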