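import Groth.Agent.Sga4h.H914.TensExact
import Groth.Agent.Sga4h.H914.CommAbs

/-!
# Graded commutativity of `Ext^*(Λ_X, Λ_X)`, `Λ` a field
-/

set_option autoImplicit false

universe u

open CategoryTheory CategoryTheory.Limits AlgebraicGeometry MonoidalCategory CategoryTheory.Abelian

namespace Groth.Agent.Sga4h.H914.GradedComm

open Groth.Agent.Sga4h.ModDTensor Groth.Agent.Sga5.H861.UnitComm TensExact
open scoped Groth.Agent.Sga4B.ModEtInst

variable {Λ : Type (u + 1)} [Field Λ] {X : Scheme.{u}}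

/-- **Graded commutativity** in all degrees. -/
theorem comm {m n : ℕ} (x : Ext.{u + 1} (un Λ X) (un Λ X) m) (y : Ext.{u + 1} (un Λ X) (un Λ X) n) :
    x.comp y (rfl : m + n = m + n) = ((-1 : ℤ) ^ (m * n)) • (y.comp x (add_comm n m)) := by
  have hR := Etcore.ExtAdj.mapExactFunctor_nat (TensorUnit.tensorUnitRight Λ X).hom x
  have hL := Etcore.ExtAdj.mapExactFunctor_nat (tensorUnitLeft Λ X).hom y
  rw [Etcore.ExtAdj.mapExactFunctor_id] at hR hL
  have hiso : IsIso ((tensorUnitLeft Λ X).hom.app (un Λ X)) := inferInstance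
  have hu := unitLeft_eq_unitRight (Λ := Λ) (X := X)
  have h := tensor_interchange Λ X x y
  refine CommAbs.comm_core ((tensorUnitLeft Λ X).hom.app (un Λ X)) rfl (add_comm n m)
    ((-1 : ℤ) ^ (m * n)) x y _ _ ?_ hL h
  rw [hu]
  exact hR

end Groth.Agent.Sga4h.H914.GradedComm
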