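/-
Maps between the graded rings `Ext^*(U, U)` induced by exact functors: multiplicativity and functoriality.
-/
import Groth.Agent.Etcore.ExtAdj

set_option autoImplicit false

universe w w' w'' v v' v'' u u' u''

open CategoryTheory CategoryTheory.Limits CategoryTheory.Abelian

namespace Groth.Agent.Sga4h.H914.AbsRes

open Groth.Agent.Etcore.ExtAdj

variable {C : Type u} [Category.{v} C] [Abelian C] [HasExt.{w} C]
variable {D : Type u'} [Category.{v'} D] [Abelian D] [HasExt.{w'} D]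
variable {E : Type u''} [Category.{v''} E] [Abelian E] [HasExt.{w''} E]

section Def

variable (F : C ⥤ D) [F.Additive] [PreservesFiniteLimits F] [PreservesFiniteColimits F]
  {U U' : C} {V V' : D} (φ : F.obj U ≅ V) (φ' : F.obj U' ≅ V')

/-- The map `Ext^n(U, U') → Ext^n(V, V')` induced by the exact functor `F` and `F U ≅ V`, `F U' ≅ V'`. -/
noncomputable def res (n : ℕ) : Ext.{w} U U' n →+ Ext.{w'} V V' n :=
  ((Ext.mk₀ φ'.hom).postcomp V (add_zero n)).comp
    ((AddMonoidHom.mk' (fun e => (Ext.mk₀ φ.inv).comp e (zero_add n))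
      (fun _ _ => Ext.comp_add _ _ _ _)).comp (F.mapExtAddHom U U' n))

theorem res_apply (n : ℕ) (x : Ext.{w} U U' n) :
    res F φ φ' n x = ((Ext.mk₀ φ.inv).comp (x.mapExactFunctor F) (zero_add n)).comp
      (Ext.mk₀ φ'.hom) (add_zero n) := rfl

variable {U'' : C} {V'' : D} (φ'' : F.obj U'' ≅ V'')

/-- Multiplicativity. -/
theorem res_comp {i j n : ℕ} (h : i + j = n) (x : Ext.{w} U U' i) (y : Ext.{w} U' U'' j) :
    res F φ φ'' n (x.comp y h) = (res F φ φ' i x).comp (res F φ' φ'' j y) h := by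
  rw [res_apply, res_apply, res_apply, Ext.mapExactFunctor_comp]
  generalize x.mapExactFunctor F = a
  generalize y.mapExactFunctor F = b
  subst h
  have h1 : ((Ext.mk₀ φ'.hom).comp (((Ext.mk₀ φ'.inv).comp b (zero_add j)).comp
      (Ext.mk₀ φ''.hom) (add_zero j)) (zero_add j)) = b.comp (Ext.mk₀ φ''.hom) (add_zero j) := by
    rw [← Ext.comp_assoc_of_third_deg_zero, Ext.mk₀_comp_mk₀_assoc, Iso.hom_inv_id, Ext.mk₀_id_comp]
  rw [Ext.comp_assoc_of_second_deg_zero, h1]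
  rw [Ext.comp_assoc_of_third_deg_zero, Ext.comp_assoc_of_third_deg_zero a b,
    Ext.comp_assoc (Ext.mk₀ φ.inv) a (b.comp (Ext.mk₀ φ''.hom) (add_zero j)) (zero_add i) rfl (by omega)]

@[simp]
theorem res_mk₀ (f : U ⟶ U') : res F φ φ' 0 (Ext.mk₀ f) = Ext.mk₀ (φ.inv ≫ F.map f ≫ φ'.hom) := by
  rw [res_apply, Ext.mapExactFunctor_mk₀, Ext.mk₀_comp_mk₀, Ext.mk₀_comp_mk₀, Category.assoc]

theorem res_mk₀_id : res F φ φ 0 (Ext.mk₀ (𝟙 U)) = Ext.mk₀ (𝟙 V) := by
  rw [res_mk₀, CategoryTheory.Functor.map_id, Category.id_comp, Iso.inv_hom_id]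

theorem res_extClass {S : ShortComplex C} (hS : S.ShortExact) :
    res F (Iso.refl _) (Iso.refl _) 1 hS.extClass = (hS.map_of_exact F).extClass := by
  rw [res_apply, Ext.mapExactFunctor_extClass]
  simp only [Iso.refl_inv, Iso.refl_hom]
  rw [Ext.comp_mk₀_id]
  exact Ext.mk₀_id_comp _

end Def

section Nat

variable {F G : C ⥤ D} [F.Additive] [PreservesFiniteLimits F] [PreservesFiniteColimits F]
  [G.Additive] [PreservesFiniteLimits G] [PreservesFiniteColimits G] [EnoughInjectives C]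

/-- Naturality: a natural transformation `τ : F ⟶ G` compatible with the identifications. -/
theorem res_nat (τ : F ⟶ G) {U U' : C} {V V' W W' : D} (φ : F.obj U ≅ V) (φ' : F.obj U' ≅ V')
    (ψ : G.obj U ≅ W) (ψ' : G.obj U' ≅ W') (a : V ⟶ W) (a' : V' ⟶ W')
    (h : τ.app U ≫ ψ.hom = φ.hom ≫ a) (h' : τ.app U' ≫ ψ'.hom = φ'.hom ≫ a') (n : ℕ)
    (x : Ext.{w} U U' n) :
    (res F φ φ' n x).comp (Ext.mk₀ a') (add_zero n) =
      (Ext.mk₀ a).comp (res G ψ ψ' n x) (zero_add n) := by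
  rw [res_apply, res_apply]
  have h1 : (Ext.mk₀ φ'.hom).comp (Ext.mk₀ a') (add_zero 0) =
      (Ext.mk₀ (τ.app U')).comp (Ext.mk₀ ψ'.hom) (add_zero 0) := by
    rw [Ext.mk₀_comp_mk₀, Ext.mk₀_comp_mk₀, h']
  have h2 : φ.inv ≫ τ.app U = a ≫ ψ.inv := by
    rw [Iso.inv_comp_eq, ← Category.assoc, Iso.eq_comp_inv, h]
  rw [Ext.comp_assoc_of_third_deg_zero, h1, ← Ext.comp_assoc_of_third_deg_zero,
    Ext.comp_assoc_of_third_deg_zero (Ext.mk₀ φ.inv), mapExactFunctor_nat τ x,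
    Ext.mk₀_comp_mk₀_assoc, h2, ← Ext.comp_assoc_of_third_deg_zero, Ext.mk₀_comp_mk₀_assoc]

/-- Invariance under a natural isomorphism compatible with the identifications. -/
theorem res_congr (τ : F ⟶ G) {U U' : C} {V V' : D} (φ : F.obj U ≅ V) (φ' : F.obj U' ≅ V')
    (ψ : G.obj U ≅ V) (ψ' : G.obj U' ≅ V')
    (h : τ.app U ≫ ψ.hom = φ.hom) (h' : τ.app U' ≫ ψ'.hom = φ'.hom) (n : ℕ)
    (x : Ext.{w} U U' n) : res F φ φ' n x = res G ψ ψ' n x := by
  have := res_nat τ φ φ' ψ ψ' (𝟙 V) (𝟙 V') (by rw [h, Category.comp_id])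
    (by rw [h', Category.comp_id]) n x
  rwa [Ext.comp_mk₀_id, Ext.mk₀_id_comp] at this

end Nat

section Functoriality

variable [EnoughInjectives C] [EnoughInjectives D]

theorem res_id {U U' : C} (n : ℕ) (x : Ext.{w} U U' n) :
    res (𝟭 C) (Iso.refl _) (Iso.refl _) n x = x := by
  rw [res_apply, mapExactFunctor_id]
  simp only [Iso.refl_inv, Iso.refl_hom]
  erw [Ext.comp_mk₀_id]
  exact Ext.mk₀_id_comp x

variable (F : C ⥤ D) (G : D ⥤ E) [F.Additive] [PreservesFiniteLimits F] [PreservesFiniteColimits F]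
  [G.Additive] [PreservesFiniteLimits G] [PreservesFiniteColimits G]
  [(F ⋙ G).Additive] [PreservesFiniteLimits (F ⋙ G)] [PreservesFiniteColimits (F ⋙ G)]

theorem res_res {U U' : C} {V V' : D} {W W' : E} (φ : F.obj U ≅ V) (φ' : F.obj U' ≅ V')
    (ψ : G.obj V ≅ W) (ψ' : G.obj V' ≅ W') (n : ℕ) (x : Ext.{w} U U' n) :
    res G ψ ψ' n (res F φ φ' n x) =
      res (F ⋙ G) (show (F ⋙ G).obj U ≅ W from G.mapIso φ ≪≫ ψ)
        (show (F ⋙ G).obj U' ≅ W' from G.mapIso φ' ≪≫ ψ') n x := by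
  rw [res_apply, res_apply, res_apply, mapExactFunctor_compFunctor, Ext.mapExactFunctor_comp,
    Ext.mapExactFunctor_comp, Ext.mapExactFunctor_mk₀, Ext.mapExactFunctor_mk₀]
  generalize (x.mapExactFunctor F).mapExactFunctor G = y
  simp only [Iso.trans_inv, Iso.trans_hom, Functor.mapIso_inv, Functor.mapIso_hom]
  rw [← Ext.mk₀_comp_mk₀, ← Ext.mk₀_comp_mk₀]
  simp only [Ext.comp_assoc_of_third_deg_zero, Ext.mk₀_comp_mk₀_assoc]
  rw [Ext.mk₀_comp_mk₀ ψ.inv]

end Functoriality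

end Groth.Agent.Sga4h.H914.AbsRes
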