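import Groth.Agent.Sga4h.H914.HR
import Groth.Agent.Etrest.SHPoint
import Groth.Agent.Sga4B.DualShape
import Groth.Agent.Etcore.HpullEq

/-!
# `HR` and `EtCoh.H`
-/

set_option autoImplicit false

universe u

open CategoryTheory CategoryTheory.Limits AlgebraicGeometry Opposite CategoryTheory.Abelian

namespace Groth.Agent.Sga4h.H914.HR

open Groth.Agent.Etcore Groth.Agent.Etcore.EtInst Groth.Agent.Sga4h.H915.DictConst Groth.Agent.Etcore.HpullCalc
open scoped Groth.Agent.Etcore.EtInst Groth.Agent.Sga4B.ModEtInst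

section

variable {Λ : Type (u + 1)} [CommRing Λ] {X Y : Scheme.{u}}

/-- The comparison with the cohomology of the constant abelian sheaf. -/
noncomputable def toHH (n : ℕ) : HR Λ X n ≃+ HH X ((constantSheaf X.smallEtaleTopology
    AddCommGrpCat.{u + 1}).obj (AddCommGrpCat.of Λ)) n :=
  (toR Λ n).trans (cmpC n)

theorem toHH_pb (f : X ⟶ Y) [PreservesFiniteLimits (EtCoh.pull f)] (n : ℕ) (x : HR Λ Y n) :
    toHH n (pb f n x) = resC (AddCommGrpCat.of Λ) f n (toHH n x) :=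
  cmpC_res f n (toR Λ n x)

/-- Positive degree cohomology of a geometric point. -/
theorem eq_zero_of_sepClosed (k : Type u) [Field k] [IsSepClosed k] (i : ℕ) (hi : 0 < i)
    (y : HR Λ (Spec (CommRingCat.of k)) i) : y = 0 := by
  have := Etrest.SHPoint.subsingleton_H_of_sepClosed k
    ((constantSheaf (Spec (CommRingCat.of k)).smallEtaleTopology
    AddCommGrpCat.{u + 1}).obj (AddCommGrpCat.of Λ)) i hi
  apply (toHH i).injective
  exact Subsingleton.elim _ _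

end

section

variable (ℓ : ℕ) {X Y : Scheme.{u}}

/-- The comparison with `H^n(X, ℤ/ℓ)`. -/
noncomputable def toH (n : ℕ) : HR (ULift.{u + 1} (ZMod ℓ)) X n ≃+ EtCoh.H X (EtCoh.const X (ZMod ℓ)) n :=
  toHH n

theorem toH_pb (f : X ⟶ Y) [PreservesFiniteLimits (EtCoh.pull f)] (n : ℕ)
    (x : HR (ULift.{u + 1} (ZMod ℓ)) Y n) :
    toH ℓ n (pb f n x) = Sga4B.DualShape.HpullConst f (ZMod ℓ) n (toH ℓ n x) := by
  refine (toHH_pb f n x).trans ?_
  rw [resC_apply]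
  change _ = HHmap ((EtCore.pullConst f (ZMod ℓ)).hom) n (EtCore.Hpull f (EtCoh.const Y (ZMod ℓ)) n (toH ℓ n x))
  rw [Hpull_apply_eq_hp]
  rfl

/-- Degree zero cohomology of a connected scheme. -/
theorem nonempty_H0 [ConnectedSpace X] : Nonempty (HR (ULift.{u + 1} (ZMod ℓ)) X 0 ≃+ ZMod ℓ) := by
  obtain ⟨e⟩ := Etrest.SHPoint.nonempty_H0_const X (ZMod ℓ)
  exact ⟨(toH ℓ 0).trans e⟩

theorem exists_smul_one [Fact ℓ.Prime] [ConnectedSpace X] [Module (ZMod ℓ) (HR (ULift.{u + 1} (ZMod ℓ)) X 0)]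
    (y : HR (ULift.{u + 1} (ZMod ℓ)) X 0) : ∃ r : ZMod ℓ, y = r • one (ULift.{u + 1} (ZMod ℓ)) X := by
  obtain ⟨e⟩ := nonempty_H0 (X := X) ℓ
  have h1 : e (one (ULift.{u + 1} (ZMod ℓ)) X) ≠ 0 := by
    intro h
    have h2 : one (ULift.{u + 1} (ZMod ℓ)) X = 0 := e.injective (h.trans (map_zero e).symm)
    have h3 : ∀ y : HR (ULift.{u + 1} (ZMod ℓ)) X 0, y = 0 := fun y => by
      rw [← mul_one y, h2, map_zero]
    have h4 : (1 : ZMod ℓ) = 0 := by
      rw [← e.apply_symm_apply 1, h3 (e.symm 1), map_zero]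
    exact one_ne_zero h4
  refine ⟨e y * (e (one (ULift.{u + 1} (ZMod ℓ)) X))⁻¹, e.injective ?_⟩
  have h2 := ZMod.map_smul e.toAddMonoidHom (e y * (e (one (ULift.{u + 1} (ZMod ℓ)) X))⁻¹)
    (one (ULift.{u + 1} (ZMod ℓ)) X)
  refine Eq.trans ?_ h2.symm
  change e y = e y * (e (one (ULift.{u + 1} (ZMod ℓ)) X))⁻¹ * e (one (ULift.{u + 1} (ZMod ℓ)) X)
  rw [inv_mul_cancel_right₀ h1]

theorem one_ne_zero [Fact ℓ.Prime] [ConnectedSpace X] : one (ULift.{u + 1} (ZMod ℓ)) X ≠ 0 := by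
  obtain ⟨e⟩ := nonempty_H0 (X := X) ℓ
  intro h2
  have h3 : ∀ y : HR (ULift.{u + 1} (ZMod ℓ)) X 0, y = 0 := fun y => by
    rw [← mul_one y, h2, map_zero]
  have h4 : (1 : ZMod ℓ) = 0 := by
    rw [← e.apply_symm_apply 1, h3 (e.symm 1), map_zero]
  exact _root_.one_ne_zero h4

end

end Groth.Agent.Sga4h.H914.HR
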