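import Mathlib.Algebra.Homology.DerivedCategory.Ext.Basic
import Mathlib.Algebra.Module.ZMod

/-!
# Bilinear maps from composition of `Ext` classes
-/

set_option autoImplicit false

universe w

open CategoryTheory CategoryTheory.Abelian

namespace Groth.Agent.Sga4h.H914.BilAbs

variable {C : Type*} [Category C] [Abelian C] [HasExt.{w} C]

/-- `(a, b) ↦ φ a · ψ b` as a biadditive map. -/
noncomputable def crA {U V W : C} {A B : Type*} [AddCommGroup A] [AddCommGroup B] {i j n : ℕ}
    (φ : A →+ Ext.{w} U V i) (ψ : B →+ Ext.{w} V W j) (h : i + j = n) : A →+ B →+ Ext.{w} U W n :=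
  AddMonoidHom.mk' (fun a => AddMonoidHom.mk'
    (fun b => (φ a).comp (ψ b) h)
    (fun b b' => by rw [map_add, Ext.comp_add]))
    (fun a a' => AddMonoidHom.ext fun b => by
      change (φ (a + a')).comp (ψ b) h = (φ a).comp (ψ b) h + (φ a').comp (ψ b) h
      rw [map_add, Ext.add_comp])

theorem crA_apply {U V W : C} {A B : Type*} [AddCommGroup A] [AddCommGroup B] {i j n : ℕ}
    (φ : A →+ Ext.{w} U V i) (ψ : B →+ Ext.{w} V W j) (h : i + j = n) (a : A) (b : B) :
    crA φ ψ h a b = (φ a).comp (ψ b) h := rfl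

end Groth.Agent.Sga4h.H914.BilAbs
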