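import Groth.Agent.Sga5.H861.DualAbs
import Groth.Agent.Sga4h.H915.Dict

/-!
# Duality between `Ext^m(Λ, F)` and `Ext^q(F, Λ)` for all sheaves `F`, from the formal duality map
-/

set_option autoImplicit false

universe u

open CategoryTheory CategoryTheory.Limits CategoryTheory.Abelian AlgebraicGeometry Opposite

namespace Groth.Agent.Sga4h.H914.DualAll

open Groth.Agent.Etcore.ExtMap Groth.Agent.Etcore.ExtAdj Groth.Agent.Sga4B.DualFormal
open Groth.Agent.Sga5.H861.DualAbs Groth.Agent.Etrest.ModAb Groth.Agent.Sga5.H861.UnitComm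
open scoped Groth.Agent.Etcore.EtInst Groth.Agent.Sga4B.ModEtInst

variable (n : ℕ) (X : Scheme.{u})

/-- Duality for all sheaves, from a formal duality. -/
theorem exists_trace_all {Ψ : EtModW.Mod (Lam.{u} n) X ⥤ EtCoh.Ab X}
    [Ψ.Additive] [PreservesFiniteLimits Ψ] [PreservesFiniteColimits Ψ]
    (θ : ab (Lam.{u} n) X ≅ Ψ) {N : ℕ} (K : EtModW.Mod (Lam.{u} n) X) (κ : un (Lam.{u} n) X ≅ K)
    (tr : Ext.{u + 1} (EtCoh.const X ℤ) (Ψ.obj K) N →+ ULift.{u + 1} (ZMod n))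
    (hb : ∀ (q m : ℕ) (h : m + q = N) (F : EtModW.Mod (Lam.{u} n) X),
      Function.Bijective (phi Ψ (EtCoh.const X ℤ) tr F h)) :
    ∃ t : Ext.{u + 1} (un (Lam.{u} n) X) (un (Lam.{u} n) X) N →+ ZMod n,
      ∀ (q m : ℕ) (h : m + q = N) (F : EtModW.Mod (Lam.{u} n) X), Function.Bijective
        (pair t h : Ext.{u + 1} F (un (Lam.{u} n) X) q →+
          (Ext.{u + 1} (un (Lam.{u} n) X) F m →+ ZMod n)) := by
  let u : ULift.{u + 1} (ZMod n) ≃+ ZMod n := AddEquiv.ulift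
  let z := H915.Dict.oneMap (Lam.{u} n) X
  let t0 := ((tr.comp ((Ext.postcomp (Ext.mk₀ (θ.hom.app K)) _ (add_zero N)))).comp
      (extMap (ab (Lam.{u} n) X) z K N)).comp
        (Ext.postcomp (Ext.mk₀ κ.hom) (un (Lam.{u} n) X) (add_zero N))
  refine ⟨u.toAddMonoidHom.comp t0, fun q m h F => ?_⟩
  have h1 := pair_bijective_of_iso κ _ h
    (pair_bijective_of_phi (ab (Lam.{u} n) X) Ψ θ z tr h
      (H915.Dict.cmp_bijective (Lam.{u} n) F m) (hb q m h F))
  have h2 : Function.Bijective (fun φ : Ext.{u + 1} (un (Lam.{u} n) X) F m →+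
      ULift.{u + 1} (ZMod n) => u.toAddMonoidHom.comp φ) :=
    (AddEquiv.addMonoidHomCongrRight u).bijective
  exact h2.comp h1

end Groth.Agent.Sga4h.H914.DualAll
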