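import Groth.Agent.Etcore.ShriekBasic

/-!
# `(𝟙 X)_! = id`
-/

set_option autoImplicit false
universe u

open CategoryTheory CategoryTheory.Limits AlgebraicGeometry Opposite

namespace Groth.Agent.Sga4h.H914.ShriekId

/-- The functor `compEtale (𝟙 X)` is the identity. -/
noncomputable def compEtaleId (X : Scheme.{u}) :
    EtShriek.compEtale (𝟙 X) ≅ 𝟭 X.Etale :=
  MorphismProperty.Over.mapId (P := EtCoh.etaleMP.{u}) (Q := ⊤) X (𝟙 X)

/-- Restriction along the identity. -/
noncomputable def restrAlongId (X : Scheme.{u}) :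
    EtShriek.restrAlong (𝟙 X) ≅ 𝟭 (EtCoh.Ab X) :=
  NatIso.ofComponents
    (fun F => (fullyFaithfulSheafToPresheaf _ _).preimageIso
      (Functor.isoWhiskerRight (NatIso.op (compEtaleId X).symm) F.obj ≪≫ Functor.leftUnitor _))
    (fun {F G} f => by
      apply (fullyFaithfulSheafToPresheaf _ _).map_injective
      simp only [Functor.map_comp, Functor.preimageIso_hom, Functor.FullyFaithful.map_preimage,
        Functor.FullyFaithful.preimageIso_hom, Functor.id_map]
      ext V x
      exact congrArg (fun φ => φ x) (congrArg AddCommGrpCat.Hom.hom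
        (f.hom.naturality ((compEtaleId X).symm.hom.app V.unop).op)).symm)

/-- `(𝟙 X)_! = id`. -/
noncomputable def extZeroId (X : Scheme.{u}) :
    EtShriek.extZero (𝟙 X) ≅ 𝟭 (EtCoh.Ab X) :=
  Adjunction.leftAdjointUniq (EtShriek.extZeroAdj (𝟙 X))
    (Adjunction.id.ofNatIsoRight (restrAlongId X).symm)

end Groth.Agent.Sga4h.H914.ShriekId
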