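import Groth.Agent.Sga4B.DualFinal
import Groth.Agent.Sga4B.PkgB
import Groth.Agent.Etdl.H425.AbFull
import Groth.Agent.Sga4h.H914.DualAll
import Groth.Agent.Sga4h.H914.ShriekId
import Groth.Agent.Sga4h.H914.Basic

/-!
# Poincaré duality for a proper smooth scheme over an algebraically closed field, all coefficients
-/

set_option autoImplicit false

universe u

open CategoryTheory CategoryTheory.Limits CategoryTheory.Abelian AlgebraicGeometry Opposite

namespace Groth.Agent.Sga4h.H914.Dual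

open Groth.Agent.Sga5.H861.DualAbs Groth.Agent.Etrest.ModAb Groth.Agent.Sga5.H861.UnitComm
open scoped Groth.Agent.Etcore.EtInst Groth.Agent.Sga4B.ModEtInst

/-- **Poincaré duality** (`X` proper smooth of relative dimension `d` over `k` algebraically closed). -/
theorem exists_trace_all {k : Type u} [Field k] [IsAlgClosed k] {X : Scheme.{u}}
    (a : X ⟶ Spec (CommRingCat.of k)) [IsProper a] (d : ℕ) [SmoothOfRelativeDimension d a] (n : ℕ)
    (hn : (n : k) ≠ 0) :
    ∃ t : Ext.{u + 1} (un (Lam.{u} n) X) (un (Lam.{u} n) X) (2 * d) →+ ZMod n,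
      ∀ (q m : ℕ) (h : m + q = 2 * d) (F : EtModW.Mod (Lam.{u} n) X), Function.Bijective
        (pair t h : Ext.{u + 1} F (un (Lam.{u} n) X) q →+
          (Ext.{u + 1} (un (Lam.{u} n) X) F m →+ ZMod n)) := by
  have hn0 : 0 < n := Nat.pos_of_ne_zero fun h => hn (by rw [h, Nat.cast_zero])
  have : SmoothOfRelativeDimension d (𝟙 X ≫ a) := by rw [Category.id_comp]; infer_instance
  obtain ⟨K, tr, -, h2, ⟨e⟩⟩ := Sga4B.DualFinal.duality a (𝟙 X) d n hn0 (Sga4B.PkgB.pkg k n hn d)
  let κ : un (Lam.{u} n) X ≅ K := (ab (Lam.{u} n) X).preimageIso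
    (H915.DictConst.cIso (Lam.{u} n) X ≪≫ e.symm)
  let θ : ab (Lam.{u} n) X ≅ Sga4B.DualAsm.Psi (𝟙 X) n :=
    (Functor.rightUnitor _).symm ≪≫ Functor.isoWhiskerLeft _ (ShriekId.extZeroId X).symm
  exact DualAll.exists_trace_all n X θ K κ tr h2

end Groth.Agent.Sga4h.H914.Dual
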