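import Groth.Agent.Sga4h.H914.Basic
import Groth.Agent.Sga4h.H914.ShriekId
import Groth.Agent.Sga4B.DualCdX

/-!
# Vanishing above twice the dimension
-/

set_option autoImplicit false

universe u

open CategoryTheory CategoryTheory.Limits AlgebraicGeometry Opposite

namespace Groth.Agent.Sga4h.H914.Vanish

open Groth.Agent.Etcore Groth.Agent.Etcore.EtInst
open scoped Groth.Agent.Etcore.EtInst

/-- `H^n(X, ℤ/ℓ) = 0` for `n > 2d`, `X` proper and smooth of relative dimension `d` over an algebraically closed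
field. -/
theorem HR_eq_zero {k : Type u} [Field k] [IsAlgClosed k] (ℓ : ℕ) (hℓ : ℓ ≠ 0) {X : Scheme.{u}}
    (p : X ⟶ Spec (CommRingCat.of k)) [IsProper p] (d : ℕ) [SmoothOfRelativeDimension d p] (n : ℕ)
    (hn : 2 * d < n) (y : HR (ULift.{u + 1} (ZMod ℓ)) X n) : y = 0 := by
  have h0 : SmoothOfRelativeDimension d (𝟙 X ≫ p) := by rwa [Category.id_comp]
  have h1 := Sga4B.DualCdX.subsingleton_H p (𝟙 X) d (EtCoh.const X (ZMod ℓ))
    (Sga5.HcConst.isTorsion_of_killedBy ℓ hℓ _ (Sga5.HcConst.killedBy_const X ℓ (ZMod ℓ)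
      (Sga5.HcConst.zmod_nsmul ℓ))) n hn
  have h2 : Subsingleton (EtCoh.H X (EtCoh.const X (ZMod ℓ)) n) :=
    (HHcongr ((ShriekId.extZeroId X).app (EtCoh.const X (ZMod ℓ))) n).symm.toEquiv.subsingleton (β := _)
  exact (HR.toH ℓ n).injective (h2.elim _ _)

end Groth.Agent.Sga4h.H914.Vanish
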