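import Groth.Agent.Sga4h.H914.Main
import Groth.Agent.Sga4h.H914.Dual
import Groth.Agent.Sga4h.H914.Vanish
import Groth.Agent.Sga4h.H564.ConsPBC
import Groth.Agent.S3101

/-!
# The connected core of the Lefschetz formula, modulo Künneth
-/

set_option autoImplicit false

universe u

open CategoryTheory CategoryTheory.Limits AlgebraicGeometry CategoryTheory.Abelian

namespace Groth.Agent.Sga4h.H914.Conn

/-- Duality in the form used by `Main.main`. -/
theorem dual {k : Type u} [Field k] [IsAlgClosed k] (ℓ : ℕ) (hℓ : (ℓ : k) ≠ 0) {X : Scheme.{u}}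
    (p : X ⟶ Spec (CommRingCat.of k)) [IsProper p] (d : ℕ) [SmoothOfRelativeDimension d p] :
    MainAbs.Dual (ULift.{u + 1} (ZMod ℓ)) ℓ X (2 * d) :=
  Dual.exists_trace_all p d ℓ hℓ

/-- **The connected core.** -/
theorem lefNum {k : Type u} [Field k] [IsAlgClosed k] (ℓ : ℕ) [Fact ℓ.Prime] (hℓ : (ℓ : k) ≠ 0)
    {X : Scheme.{u}} (p : X ⟶ Spec (CommRingCat.of k)) [IsProper p] (d : ℕ) [SmoothOfRelativeDimension d p]
    [ConnectedSpace X]
    (hK : ∀ n, Function.Bijective (EtSix.crossSum (ULift.{u + 1} (ZMod ℓ)) p p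
      (EtModW.constMod (ULift.{u + 1} (ZMod ℓ)) X (ULift.{u + 1} (ZMod ℓ)))
      (EtModW.constMod (ULift.{u + 1} (ZMod ℓ)) X (ULift.{u + 1} (ZMod ℓ))) n))
    (f : X ⟶ X) (hf : f ≫ p = p) [IsFinite (FinFr.fixSchemeTo p f hf)] :
    FixPt.lefNum (FixPt.unit (ULift.{u + 1} (ZMod ℓ)) X)
      (FixPt.endo f (FixPt.pullUnit (Λ := ULift.{u + 1} (ZMod ℓ)) f).hom) =
        (FinFr.fixCount p f hf : ULift.{u + 1} (ZMod ℓ)) := by
  have h1 : SmoothOfRelativeDimension d (pullback.fst p p) :=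
    (smoothOfRelativeDimension_isStableUnderBaseChange d).of_isPullback
      (IsPullback.of_hasPullback p p).flip inferInstance
  have h2 : SmoothOfRelativeDimension (d + d) (pullback.fst p p ≫ p) := inferInstance
  exact Main.main ℓ hℓ S3101.result p d (H564.ConsPBC.cons p (ZMod ℓ)) hK
    (fun n hn y => Vanish.HR_eq_zero ℓ (Fact.out : ℓ.Prime).ne_zero p d n hn y)
    (dual ℓ hℓ p d) (dual ℓ hℓ (pullback.fst p p ≫ p) (d + d)) f hf

end Groth.Agent.Sga4h.H914.Conn
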