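import Groth.Agent.Sga4h.H914.Slice

/-!
# The formal core of the Lefschetz formula: duality + Künneth give the class of the diagonal and
the alternating sum of the traces
-/

set_option autoImplicit false

universe u

open CategoryTheory CategoryTheory.Limits AlgebraicGeometry CategoryTheory.Abelian

namespace Groth.Agent.Sga4h.H914.Core

open Form TensComm Groth.Agent.Sga5.H861.UnitComm Groth.Agent.Sga5.H861.DualAbs
open scoped Groth.Agent.Sga4B.ModEtInst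

variable (ℓ : ℕ) [Fact ℓ.Prime] {Λ : Type (u + 1)} [CommRing Λ] [AllFlat Λ] {X S U : Scheme.{u}}
  (p q : S ⟶ X) [∀ i, Module (ZMod ℓ) (HR Λ X i)] [∀ i, Module (ZMod ℓ) (HR Λ S i)]
  {N NS : ℕ}

/-- **The formal core.** -/
theorem core (hK : ∀ n, Function.Bijective (KunnAlg.total (n := n) (HR.cr (Λ := Λ) p q)))
    (hNS : N + N = NS) (h0 : ∀ y : HR Λ X 0, ∃ r : ZMod ℓ, y = r • HR.one Λ X)
    (hvan : ∀ n, N < n → ∀ y : HR Λ X n, y = 0) (tX : HR Λ X N →+ ZMod ℓ)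
    (hinj : ∀ x, tX x = 0 → x = 0) (hsurj : ∃ a, tX a = 1)
    (tS : HR Λ S NS →+ ZMod ℓ) (Δ : X ⟶ S) [IsClosedImmersion Δ] (hΔp : Δ ≫ p = 𝟙 X)
    (hΔq : Δ ≫ q = 𝟙 X)
    (hS : Function.Surjective (pair (tS.comp (HR.toR Λ NS).symm.toAddMonoidHom) hNS :
      Ext.{u + 1} ((EtModW.push Λ Δ).obj (un Λ X)) (un Λ S) N →+
        (Ext.{u + 1} (un Λ S) ((EtModW.push Λ Δ).obj (un Λ X)) N →+ ZMod ℓ)))
    (j : U ⟶ S) [IsOpenImmersion j] (hj : IsCompl (Set.range Δ) (Set.range j))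
    {T : Scheme.{u}} (t : T ⟶ X) (a : X ⟶ T) (s : X ⟶ S) (hsp : s ≫ p = a ≫ t)
    (hsq : s ≫ q = 𝟙 X) (hT : ∀ (i : ℕ), 0 < i → ∀ y : HR Λ T i, y = 0) :
    ∃ (e : HR Λ X N →+ ZMod ℓ) (c : HR Λ S N), HR.pb j N c = 0 ∧
      (∀ {T' : Scheme.{u}} (t' : T' ⟶ X) (a' : X ⟶ T') (s' : X ⟶ S), s' ≫ p = a' ≫ t' →
        s' ≫ q = 𝟙 X → (∀ (i : ℕ), 0 < i → ∀ y : HR Λ T' i, y = 0) → e (HR.pb s' N c) = 1) ∧
      (∀ i, FiniteDimensional (ZMod ℓ) (HR Λ X i)) ∧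
      ∀ (f : X ⟶ X) (γ : X ⟶ S), γ ≫ p = f → γ ≫ q = 𝟙 X →
        ∑ j ∈ Finset.range (N + 1), (-1 : ZMod ℓ) ^ j *
          LinearMap.trace (ZMod ℓ) (HR Λ X j) ((HR.pb f j).toZModLinearMap ℓ) = e (HR.pb γ N c) := by
  obtain ⟨c, hc1, hc2⟩ := Diag.exists_class Δ hNS tS tX hS
  have hcj : HR.pb j N c = 0 := hc2 j fun x hx =>
    Set.disjoint_left.1 hj.disjoint hx ⟨x, rfl⟩
  have hdec := KunnAlg.dec_of_surjective _ (hK N).2 c
  obtain ⟨e, he, hes⟩ := Slice.exists_norm ℓ p q c hdec h0 hvan tX hinj hsurj hNS tS Δ hΔp hc1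
  have hsupp : ∀ {i n : ℕ} (h : i + N = n) (x : HR Λ X i),
      HR.mul h (HR.pb p i x) c = HR.mul h (HR.pb q i x) c := fun {i n} h x =>
    HR.mul_eq_of_pb_eq Δ j hj h c hcj _ _ (by
      rw [HR.pb_pb Δ p _ hΔp, HR.pb_pb Δ q _ hΔq])
  have hfin : ∀ i, FiniteDimensional (ZMod ℓ) (HR Λ X i) := fun i => by
    by_cases hi : i ≤ N
    · exact Form.finiteDimensional ℓ p q hK e c hsupp t s a hsp hsq hT h0
        (hes t a s hsp hsq hT) (Nat.add_sub_cancel' hi)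
    · have : Subsingleton (HR Λ X i) :=
        ⟨fun x y => (hvan i (by omega) x).trans (hvan i (by omega) y).symm⟩
      infer_instance
  exact ⟨e, c, hcj, hes, hfin, fun f γ hγp hγq =>
    Form.lefschetz ℓ p q hK e c hsupp t s a hsp hsq hT h0 (hes t a s hsp hsq hT) f γ hγp hγq⟩

end Groth.Agent.Sga4h.H914.Core
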