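import Groth.Agent.Etcore.ExtAdj

/-!
# The cross product of unit classes, abstract form
-/

set_option autoImplicit false

universe w v u

open CategoryTheory CategoryTheory.Limits CategoryTheory.Abelian

namespace Groth.Agent.Sga4h.H914.CrossAbs

variable {A : Type u} [Category.{v} A] [Abelian A] [HasExt.{w} A] [EnoughInjectives A]

theorem cross_abs {U A0 B0 : A} (F G : A ⥤ A) [F.Additive] [G.Additive]
    [PreservesFiniteLimits F] [PreservesFiniteColimits F]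
    (τ : F ⟶ G) (lam : G ⟶ 𝟭 A) (m : A0 ⟶ F.obj U) (m' : U ⟶ G.obj U) (uA : A0 ⟶ U) (uB : B0 ⟶ U)
    (h1 : m ≫ τ.app U = uA ≫ m') (h2 : m' ≫ lam.app U = 𝟙 U)
    {i j n : ℕ} (h : i + j = n) (α : Ext.{w} U A0 i) (β : Ext.{w} U B0 j) :
    (α.comp ((Ext.mk₀ m).comp (β.mapExactFunctor F) (zero_add j)) h).comp
      (Ext.mk₀ (τ.app B0 ≫ G.map uB ≫ lam.app U)) (add_zero n) =
    (α.comp (Ext.mk₀ uA) (add_zero i)).comp (β.comp (Ext.mk₀ uB) (add_zero j)) h := by
  have e1 : τ.app B0 ≫ G.map uB ≫ lam.app U = F.map uB ≫ (τ ≫ lam).app U := by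
    rw [NatTrans.comp_app, ← τ.naturality_assoc]
  have e2 := Etcore.ExtAdj.mapExactFunctor_nat (τ ≫ lam) (β.comp (Ext.mk₀ uB) (add_zero j))
  rw [Etcore.ExtAdj.mapExactFunctor_id, Ext.mapExactFunctor_comp, Ext.mapExactFunctor_mk₀] at e2
  have e3 : m ≫ (τ ≫ lam).app U = uA := by
    rw [NatTrans.comp_app, ← Category.assoc, h1, Category.assoc, h2, Category.comp_id]
  rw [e1, ← Ext.mk₀_comp_mk₀]
  generalize β.mapExactFunctor F = β' at *
  rw [Ext.comp_assoc_of_third_deg_zero, Ext.comp_assoc_of_third_deg_zero]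
  rw [← Ext.comp_assoc_of_third_deg_zero β', e2, ← Ext.comp_assoc_of_second_deg_zero,
    ← Ext.comp_assoc_of_second_deg_zero, Ext.comp_assoc_of_third_deg_zero α, Ext.mk₀_comp_mk₀, e3]

end Groth.Agent.Sga4h.H914.CrossAbs
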