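import Groth.Agent.Etcore.ExtAdj
import Groth.Agent.Sga5.H861.DualAbs

/-!
# The class of the diagonal by duality, abstract form
-/

set_option autoImplicit false

universe w

open CategoryTheory CategoryTheory.Limits CategoryTheory.Abelian

namespace Groth.Agent.Sga4h.H914.DiagAbs

open Groth.Agent.Sga5.H861.DualAbs

variable {C : Type*} [Category C] [Abelian C] [HasExt.{w} C]
variable {D : Type*} [Category D] [Abelian D] [HasExt.{w} D]
variable (L : C ⥤ D) (Rg : D ⥤ C) (adj : L ⊣ Rg) [L.Additive] [PreservesFiniteLimits L]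
  [PreservesFiniteColimits L] {U : C} {V : D} (φ : L.obj U ≅ V)

/-- Inverse image, then the counit. -/
noncomputable def edge (n : ℕ) : Ext.{w} U (Rg.obj V) n →+ Ext.{w} V V n :=
  AddMonoidHom.mk' (fun z => ((Ext.mk₀ φ.inv).comp (z.mapExactFunctor L) (zero_add n)).comp
    (Ext.mk₀ (adj.counit.app V)) (add_zero n)) (fun a b => by
      have h : (a + b).mapExactFunctor L = a.mapExactFunctor L + b.mapExactFunctor L :=
        (L.mapExtAddHom _ _ n).map_add a b
      rw [h, Ext.comp_add, Ext.add_comp])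

theorem edge_apply (n : ℕ) (z : Ext.{w} U (Rg.obj V) n) :
    edge L Rg adj φ n z = ((Ext.mk₀ φ.inv).comp (z.mapExactFunctor L) (zero_add n)).comp
    (Ext.mk₀ (adj.counit.app V)) (add_zero n) := rfl

theorem edge_eta (n : ℕ) (α : Ext.{w} U U n) :
    edge L Rg adj φ n (α.comp (Ext.mk₀ (adj.homEquiv U V φ.hom)) (add_zero n)) =
      ((Ext.mk₀ φ.inv).comp (α.mapExactFunctor L) (zero_add n)).comp (Ext.mk₀ φ.hom) (add_zero n) := by
  have h1 : L.map (adj.homEquiv U V φ.hom) ≫ adj.counit.app V = φ.hom :=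
    (Adjunction.homEquiv_counit adj U V _).symm.trans ((adj.homEquiv U V).symm_apply_apply φ.hom)
  rw [edge_apply, Ext.mapExactFunctor_comp, Ext.mapExactFunctor_mk₀]
  generalize α.mapExactFunctor L = α'
  rw [Ext.comp_assoc_of_third_deg_zero, Ext.comp_assoc_of_third_deg_zero, Ext.mk₀_comp_mk₀, h1,
    ← Ext.comp_assoc_of_third_deg_zero]

/-- Existence of the class. -/
theorem exists_class {E : Type*} [AddCommGroup E] {N N' NS : ℕ} (h : N + N' = NS)
    (tS : Ext.{w} U U NS →+ E) (tX : Ext.{w} V V N →+ E)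
    (hS : Function.Surjective (pair tS h : Ext.{w} (Rg.obj V) U N' →+ (Ext.{w} U (Rg.obj V) N →+ E))) :
    ∃ c' : Ext.{w} (Rg.obj V) U N', ∀ α : Ext.{w} U U N,
      tS (α.comp ((Ext.mk₀ (adj.homEquiv U V φ.hom)).comp c' (zero_add N')) h) =
        tX (((Ext.mk₀ φ.inv).comp (α.mapExactFunctor L) (zero_add N)).comp (Ext.mk₀ φ.hom)
          (add_zero N)) := by
  obtain ⟨c', hc'⟩ := hS (tX.comp (edge L Rg adj φ N))
  refine ⟨c', fun α => ?_⟩
  have h1 := DFunLike.congr_fun hc' (α.comp (Ext.mk₀ (adj.homEquiv U V φ.hom)) (add_zero N))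
  rw [pair_apply, Ext.comp_assoc_of_second_deg_zero] at h1
  rw [h1, AddMonoidHom.comp_apply, edge_eta]

end Groth.Agent.Sga4h.H914.DiagAbs
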