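import Groth.Agent.Sga4h.H914.HR
import Groth.Agent.Sga4h.H914.DiagAbs

/-!
# The class of the diagonal in `H^*(S, Λ)` by duality on `S`
-/

set_option autoImplicit false

universe u

open CategoryTheory CategoryTheory.Limits AlgebraicGeometry CategoryTheory.Abelian

namespace Groth.Agent.Sga4h.H914.Diag

open Groth.Agent.Sga5.H861.UnitComm Groth.Agent.Sga5.H861.Res Groth.Agent.Sga5.H861.DualAbs TensComm
open Groth.Agent.Sga4h.LFinSupp Groth.Agent.Sga4h.LFinPull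
open scoped Groth.Agent.Sga4B.ModEtInst

variable {Λ : Type (u + 1)} [CommRing Λ] {X S U : Scheme.{u}}

theorem isZero_pull_push (i : X ⟶ S) [UniversallyClosed i] (j : U ⟶ S) (hj : ∀ x, j x ∉ Set.range i) :
    IsZero ((EtModW.pull Λ j).obj ((EtModW.push Λ i).obj (un Λ X))) :=
  (zeroOff_push_range (Λ := Λ) i _).isZero_pull j hj

/-- The map `Λ_S ⟶ i_* Λ_X`. -/
noncomputable def eta (i : X ⟶ S) : un Λ S ⟶ (EtModW.push Λ i).obj (un Λ X) :=
  (FixPt.pullPushAdj i).homEquiv (un Λ S) (un Λ X) (FixPt.pullUnit (Λ := Λ) i).hom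

theorem exists_classR (i : X ⟶ S) {E : Type*} [AddCommGroup E] {N N' NS : ℕ} (h : N + N' = NS)
    (tS : Ext.{u + 1} (un Λ S) (un Λ S) NS →+ E) (tX : Ext.{u + 1} (un Λ X) (un Λ X) N →+ E)
    (hS : Function.Surjective (pair tS h :
      Ext.{u + 1} ((EtModW.push Λ i).obj (un Λ X)) (un Λ S) N' →+
        (Ext.{u + 1} (un Λ S) ((EtModW.push Λ i).obj (un Λ X)) N →+ E))) :
    ∃ c' : Ext.{u + 1} ((EtModW.push Λ i).obj (un Λ X)) (un Λ S) N',
      ∀ α : Ext.{u + 1} (un Λ S) (un Λ S) N,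
        tS (α.comp ((Ext.mk₀ (eta i)).comp c' (zero_add N')) h) = tX (res i N α) :=
  DiagAbs.exists_class (EtModW.pull Λ i) (EtModW.push Λ i) (FixPt.pullPushAdj i)
    (FixPt.pullUnit (Λ := Λ) i) h tS tX hS

theorem res_eta_comp (i : X ⟶ S) [UniversallyClosed i] (j : U ⟶ S) (hj : ∀ x, j x ∉ Set.range i)
    {N' : ℕ} (c' : Ext.{u + 1} ((EtModW.push Λ i).obj (un Λ X)) (un Λ S) N') :
    res j N' ((Ext.mk₀ (eta i)).comp c' (zero_add N')) = 0 := by
  refine (res_eq_zero_iff j N' _).2 ?_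
  rw [Ext.mapExactFunctor_comp, Ext.mapExactFunctor_mk₀,
    (isZero_pull_push i j hj).eq_of_tgt ((EtModW.pull Λ j).map (eta i)) 0, Ext.mk₀_zero, Ext.zero_comp]

/-- The class of `i : X ⟶ S` attached to a functional on `H^N(X)`, from duality on `S` for `i_* Λ`. -/
theorem exists_class (i : X ⟶ S) [UniversallyClosed i] {E : Type*} [AddCommGroup E] {N N' NS : ℕ}
    (h : N + N' = NS) (tS : HR Λ S NS →+ E) (tX : HR Λ X N →+ E)
    (hS : Function.Surjective (pair (tS.comp (HR.toR Λ NS).symm.toAddMonoidHom) h :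
      Ext.{u + 1} ((EtModW.push Λ i).obj (un Λ X)) (un Λ S) N' →+
        (Ext.{u + 1} (un Λ S) ((EtModW.push Λ i).obj (un Λ X)) N →+ E))) :
    ∃ c : HR Λ S N', (∀ α : HR Λ S N, tS (HR.mul h α c) = tX (HR.pb i N α)) ∧
      ∀ {U : Scheme.{u}} (j : U ⟶ S), (∀ x, j x ∉ Set.range i) → HR.pb j N' c = 0 := by
  obtain ⟨c', hc'⟩ := exists_classR i h (tS.comp (HR.toR Λ NS).symm.toAddMonoidHom)
    (tX.comp (HR.toR Λ N).symm.toAddMonoidHom) hS
  exact ⟨(HR.toR Λ N').symm ((Ext.mk₀ (eta i)).comp c' (zero_add N')),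
    fun α => hc' (HR.toR Λ N α), fun j hj => res_eta_comp i j hj c'⟩

end Groth.Agent.Sga4h.H914.Diag
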