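import Mathlib.Algebra.Homology.DerivedCategory.Ext.ExactSequences
import Mathlib.CategoryTheory.Abelian.Refinements

/-!
# The `3 × 3` lemma for extension classes

For a `3 × 3` diagram with short exact rows `S'`, `S`, `S''` and short exact columns `c₁`, `c₂`, `c₃` in an abelian
category, `[c₃] · [S'] + [S''] · [c₁] = 0` in `Ext²(S''₃, S'₁)`.
(The proof follows `Groth.Agent.Sga5.H861.ExtAntiComm`.)
-/

set_option autoImplicit false

universe w v u

attribute [local simp] CategoryTheory.Limits.pullback.lift_fst CategoryTheory.Limits.pullback.lift_snd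
  CategoryTheory.Limits.pullback.lift_fst_assoc CategoryTheory.Limits.pullback.lift_snd_assoc

open CategoryTheory CategoryTheory.Limits CategoryTheory.Abelian

namespace Groth.Agent.Sga4h.H914.ThreeByThree

variable {B : Type u} [Category.{v} B] [Abelian B] [HasExt.{w} B]

/-- Two extension classes whose quotient/sub objects are spliced through one exact sequence compose
to zero. -/
theorem extClass_comp_mk₀_comp {S₁ S₂ : ShortComplex B} (h₁ : S₁.ShortExact) (h₂ : S₂.ShortExact)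
    (k : S₁.X₂ ⟶ S₂.X₃) :
    h₁.extClass.comp ((Ext.mk₀ (S₁.f ≫ k)).comp h₂.extClass (zero_add 1)) rfl =
      (0 : Ext.{w} S₁.X₃ S₂.X₁ 2) := by
  rw [← Ext.mk₀_comp_mk₀, Ext.comp_assoc_of_second_deg_zero, h₁.extClass_comp_assoc]

variable {S' S S'' : ShortComplex B} (a : S' ⟶ S) (b : S ⟶ S'')
  (w₁ : a.τ₁ ≫ b.τ₁ = 0) (w₂ : a.τ₂ ≫ b.τ₂ = 0) (w₃ : a.τ₃ ≫ b.τ₃ = 0)
  (h' : S'.ShortExact) (h : S.ShortExact) (h'' : S''.ShortExact)
  (c₁ : (ShortComplex.mk a.τ₁ b.τ₁ w₁).ShortExact)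
  (c₂ : (ShortComplex.mk a.τ₂ b.τ₂ w₂).ShortExact)
  (c₃ : (ShortComplex.mk a.τ₃ b.τ₃ w₃).ShortExact)

/-- `P = S₃ ×_{S''₃} S''₂`. -/
noncomputable abbrev P : B := pullback b.τ₃ S''.g

/-- The map `S'₃ ⟶ P`. -/
noncomputable abbrev k1 : S'.X₃ ⟶ P b :=
  pullback.lift a.τ₃ 0 (by rw [w₃, zero_comp])

/-- The map `S''₁ ⟶ P`. -/
noncomputable abbrev k2 : S''.X₁ ⟶ P b :=
  pullback.lift 0 S''.f (by rw [zero_comp, S''.zero])

/-- The short complex `S'₃ ⊞ S''₁ ⟶ P ⟶ S''₃`. -/
noncomputable abbrev S2 : ShortComplex B :=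
  ShortComplex.mk (X₁ := S'.X₃ ⊞ S''.X₁) (X₂ := P b) (X₃ := S''.X₃)
    (biprod.desc (k1 a b w₃) (k2 b)) (pullback.snd _ _ ≫ S''.g) (by
      ext
      · simp
      · simp)

/-- The short complex `S'₁ ⟶ S₂ ⟶ P`. -/
noncomputable abbrev SA : ShortComplex B :=
  ShortComplex.mk (X₁ := S'.X₁) (X₂ := S.X₂) (X₃ := P b)
    (S'.f ≫ a.τ₂) (pullback.lift S.g b.τ₂ b.comm₂₃.symm) (by
      apply pullback.hom_ext
      · rw [Category.assoc, Category.assoc, pullback.lift_fst, a.comm₂₃, ← Category.assoc,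
          S'.zero, zero_comp, zero_comp]
      · rw [Category.assoc, Category.assoc, pullback.lift_snd, w₂, comp_zero, zero_comp])

omit [HasExt.{w} B] in
include c₃ h'' in
theorem shortExact_S2 : (S2 a b w₃).ShortExact := by
  have hm := h''.mono_f
  have he := h''.epi_g
  have ham := c₃.mono_f
  have hbe := c₃.epi_g
  dsimp only at ham hbe
  have hmono : Mono (S2 a b w₃).f := by
    refine Preadditive.mono_of_cancel_zero _ (fun {Q} x hx => ?_)
    have h1 : x = biprod.lift (x ≫ biprod.fst) (x ≫ biprod.snd) := by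
      ext <;> simp
    have h2 : (x ≫ biprod.fst) ≫ k1 a b w₃ + (x ≫ biprod.snd) ≫ k2 b = 0 := by
      rw [← biprod.lift_desc, ← h1]
      exact hx
    have h3 : x ≫ biprod.fst = 0 := by
      have := congrArg (· ≫ pullback.fst _ _) h2
      simp only [Preadditive.add_comp, Category.assoc, pullback.lift_fst, comp_zero, add_zero,
        zero_comp] at this
      rw [← Category.assoc] at this
      exact (cancel_mono a.τ₃).1 (this.trans zero_comp.symm)
    have h4 : x ≫ biprod.snd = 0 := by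
      have := congrArg (· ≫ pullback.snd _ _) h2
      simp only [Preadditive.add_comp, Category.assoc, pullback.lift_snd, comp_zero, zero_add,
        zero_comp] at this
      rw [← Category.assoc] at this
      exact (cancel_mono S''.f).1 (this.trans zero_comp.symm)
    rw [h1, h3, h4]
    ext <;> simp
  have hepi : Epi (S2 a b w₃).g := by
    have h1 : Epi (pullback.snd b.τ₃ S''.g) := inferInstance
    exact epi_comp _ _
  refine { mono_f := hmono, epi_g := hepi, exact := ?_ }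
  apply ShortComplex.exact_of_f_is_kernel
  refine KernelFork.IsLimit.ofι' _ _ (fun {Q} x hx => ?_)
  have hx' : (x ≫ pullback.snd _ _) ≫ S''.g = 0 := by rw [Category.assoc]; exact hx
  let m : Q ⟶ S''.X₁ := h''.exact.lift (x ≫ pullback.snd _ _) hx'
  have hm' : m ≫ S''.f = x ≫ pullback.snd _ _ := h''.exact.lift_f _ _
  have hx'' : (x ≫ pullback.fst _ _) ≫ b.τ₃ = 0 := by
    rw [Category.assoc, pullback.condition, ← Category.assoc]
    exact hx'
  let c : Q ⟶ S'.X₃ := c₃.exact.lift (x ≫ pullback.fst _ _) hx''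
  have hc : c ≫ a.τ₃ = x ≫ pullback.fst _ _ := c₃.exact.lift_f _ _
  refine ⟨biprod.lift c m, ?_⟩
  apply pullback.hom_ext
  · simp [hc]
  · simp [hm']

omit [HasExt.{w} B] in
include h' h h'' c₁ c₂ c₃ in
theorem shortExact_SA : (SA a b w₂).ShortExact := by
  have hm' : Mono S'.f := h'.mono_f
  have hm := h.mono_f
  have hm'' : Mono S''.f := h''.mono_f
  have ham := c₃.mono_f
  have ham2 := c₂.mono_f
  have hbe := c₁.epi_g
  dsimp only at ham ham2 hbe
  have hmono : Mono (SA a b w₂).f := mono_comp _ _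
  have hepi : Epi (SA a b w₂).g := by
    rw [epi_iff_surjective_up_to_refinements]
    intro Q x
    have hTe : Epi S.g := h.epi_g
    obtain ⟨Q₁, q₁, hq₁, y, hy⟩ := surjective_up_to_refinements_of_epi S.g
      (x ≫ pullback.fst _ _)
    let d := q₁ ≫ x ≫ pullback.snd _ _ - y ≫ b.τ₂
    have hd : d ≫ S''.g = 0 := by
      have h1 : pullback.fst b.τ₃ S''.g ≫ b.τ₃ =
        pullback.snd b.τ₃ S''.g ≫ S''.g := pullback.condition
      simp only [d, Preadditive.sub_comp, Category.assoc]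
      rw [← h1, b.comm₂₃, ← reassoc_of% hy, sub_self]
    let m : Q₁ ⟶ S''.X₁ := h''.exact.lift d hd
    have hm' : m ≫ S''.f = d := h''.exact.lift_f _ _
    obtain ⟨Q₂, q₂, hq₂, t, ht⟩ := surjective_up_to_refinements_of_epi b.τ₁ m
    refine ⟨Q₂, q₂ ≫ q₁, epi_comp _ _, q₂ ≫ y + t ≫ S.f, ?_⟩
    apply pullback.hom_ext
    · simp only [Category.assoc, Preadditive.add_comp, pullback.lift_fst]
      rw [S.zero, comp_zero, add_zero, ← hy]
    · simp only [Category.assoc, Preadditive.add_comp, pullback.lift_snd]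
      rw [← b.comm₁₂, ← reassoc_of% ht, hm']
      simp [d]
  refine { mono_f := hmono, epi_g := hepi, exact := ?_ }
  apply ShortComplex.exact_of_f_is_kernel
  refine KernelFork.IsLimit.ofι' _ _ (fun {Q} x hx => ?_)
  have hx1 : x ≫ S.g = 0 := by
    have := congrArg (· ≫ pullback.fst _ _) hx
    simpa using this
  have hx2 : x ≫ b.τ₂ = 0 := by
    have := congrArg (· ≫ pullback.snd _ _) hx
    simpa using this
  let n : Q ⟶ S'.X₂ := c₂.exact.lift x hx2
  have hn : n ≫ a.τ₂ = x := c₂.exact.lift_f _ _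
  have hn2 : n ≫ S'.g = 0 := by
    apply (cancel_mono a.τ₃).1
    rw [Category.assoc, ← a.comm₂₃, reassoc_of% hn, hx1, zero_comp]
  let m : Q ⟶ S'.X₁ := h'.exact.lift n hn2
  have hm'' : m ≫ S'.f = n := h'.exact.lift_f _ _
  exact ⟨m, by rw [← Category.assoc, hm'', hn]⟩

/-- The class of `SA` pulled back along `k1` is the class of `S'`. -/
theorem k1_comp :
    (Ext.mk₀ (k1 a b w₃)).comp (shortExact_SA a b w₁ w₂ w₃ h' h h'' c₁ c₂ c₃).extClass (zero_add 1) =
      (h'.extClass : Ext.{w} _ _ 1) := by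
  let φ : S' ⟶ SA a b w₂ :=
    { τ₁ := 𝟙 _
      τ₂ := a.τ₂
      τ₃ := k1 a b w₃
      comm₁₂ := by simp
      comm₂₃ := by
        apply pullback.hom_ext
        · simp [a.comm₂₃]
        · simp [w₂] }
  have hh := ShortComplex.ShortExact.extClass_naturality h'
    (shortExact_SA a b w₁ w₂ w₃ h' h h'' c₁ c₂ c₃) φ
  refine hh.symm.trans ?_
  exact Ext.comp_mk₀_id _

/-- The class of `SA` pulled back along `k2` is the class of `c₁`. -/
theorem k2_comp :
    (Ext.mk₀ (k2 b)).comp (shortExact_SA a b w₁ w₂ w₃ h' h h'' c₁ c₂ c₃).extClass (zero_add 1) =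
      (c₁.extClass : Ext.{w} _ _ 1) := by
  let φ : ShortComplex.mk a.τ₁ b.τ₁ w₁ ⟶ SA a b w₂ :=
    { τ₁ := 𝟙 _
      τ₂ := S.f
      τ₃ := k2 b
      comm₁₂ := by simp [a.comm₁₂]
      comm₂₃ := by
        apply pullback.hom_ext
        · simp
        · simp [b.comm₁₂] }
  have hh := ShortComplex.ShortExact.extClass_naturality c₁
    (shortExact_SA a b w₁ w₂ w₃ h' h h'' c₁ c₂ c₃) φ
  refine hh.symm.trans ?_
  exact Ext.comp_mk₀_id _

/-- The class of `S2` pushed to `S'₃` is the class of `c₃`. -/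
theorem comp_fst :
    (shortExact_S2 a b w₃ h'' c₃).extClass.comp (Ext.mk₀ biprod.fst) (add_zero 1) =
      (c₃.extClass : Ext.{w} _ _ 1) := by
  let φ : S2 a b w₃ ⟶ ShortComplex.mk a.τ₃ b.τ₃ w₃ :=
    { τ₁ := biprod.fst
      τ₂ := pullback.fst _ _
      τ₃ := 𝟙 _
      comm₁₂ := by
        ext <;> simp
      comm₂₃ := by
        simp [pullback.condition] }
  have hh := ShortComplex.ShortExact.extClass_naturality
    (shortExact_S2 a b w₃ h'' c₃) c₃ φ
  refine hh.trans ?_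
  exact Ext.mk₀_id_comp _

/-- The class of `S2` pushed to `S''₁` is the class of `S''`. -/
theorem comp_snd :
    (shortExact_S2 a b w₃ h'' c₃).extClass.comp (Ext.mk₀ biprod.snd) (add_zero 1) =
      (h''.extClass : Ext.{w} _ _ 1) := by
  let φ : S2 a b w₃ ⟶ S'' :=
    { τ₁ := biprod.snd
      τ₂ := pullback.snd _ _
      τ₃ := 𝟙 _
      comm₁₂ := by
        ext <;> simp
      comm₂₃ := by simp }
  have hh := ShortComplex.ShortExact.extClass_naturality
    (shortExact_S2 a b w₃ h'' c₃) h'' φ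
  refine hh.trans ?_
  exact Ext.mk₀_id_comp _

include w₂ h c₂ in
/-- **The `3 × 3` lemma** for extension classes. -/
theorem anticomm :
    c₃.extClass.comp h'.extClass rfl + h''.extClass.comp c₁.extClass rfl =
      (0 : Ext.{w} S''.X₃ S'.X₁ 2) := by
  have h0 := extClass_comp_mk₀_comp (shortExact_S2 a b w₃ h'' c₃)
    (shortExact_SA a b w₁ w₂ w₃ h' h h'' c₁ c₂ c₃) (𝟙 (P b))
  rw [Category.comp_id] at h0
  have h1 : biprod.desc (k1 a b w₃) (k2 b) =
      biprod.fst ≫ k1 a b w₃ + biprod.snd ≫ k2 b := by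
    ext <;> simp
  have h2 : (S2 a b w₃).f = biprod.fst ≫ k1 a b w₃ + biprod.snd ≫ k2 b := h1
  rw [h2, Ext.mk₀_add, Ext.add_comp, Ext.comp_add, ← Ext.mk₀_comp_mk₀, ← Ext.mk₀_comp_mk₀] at h0
  rw [Ext.comp_assoc_of_second_deg_zero, Ext.comp_assoc_of_second_deg_zero,
    k1_comp a b w₁ w₂ w₃ h' h h'' c₁ c₂ c₃, k2_comp a b w₁ w₂ w₃ h' h h'' c₁ c₂ c₃,
    ← Ext.comp_assoc_of_second_deg_zero, ← Ext.comp_assoc_of_second_deg_zero] at h0
  rw [comp_fst a b w₃ h'' c₃, comp_snd a b w₃ h'' c₃] at h0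
  exact h0

end Groth.Agent.Sga4h.H914.ThreeByThree
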