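import Groth.Agent.Etcore.ExtAdj
import Groth.Agent.Sga4h.H914.ThreeByThree

/-!
# Short exact sequences of exact functors and `Ext`

For exact functors `T' ⟶ T ⟶ T''` from `A` to `B` with `0 → T' M → T M → T'' M → 0` exact for all `M`, with
class `z_M ∈ Ext¹(T'' M, T' M)`:  `z_M · T'(y) = (-1)^n T''(y) · z_N` for `y ∈ Extⁿ(M, N)` (`comm_ext`).
-/

set_option autoImplicit false

universe w w' v v' u u'

open CategoryTheory CategoryTheory.Limits CategoryTheory.Abelian

namespace Groth.Agent.Sga4h.H914.ExtExact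

variable {A : Type u} [Category.{v} A] [Abelian A] [HasExt.{w} A]
variable {B : Type u'} [Category.{v'} B] [Abelian B] [HasExt.{w'} B]

theorem zsmul_comp {X Y Z : B} {i j n : ℕ} (m : ℤ) (a : Ext.{w'} X Y i) (b : Ext.{w'} Y Z j)
    (h : i + j = n) : (m • a).comp b h = m • (a.comp b h) :=
  map_zsmul (AddMonoidHom.mk' (fun a : Ext.{w'} X Y i => a.comp b h) (fun _ _ => Ext.add_comp _ _ _ _)) m a

theorem comp_zsmul {X Y Z : B} {i j n : ℕ} (m : ℤ) (a : Ext.{w'} X Y i) (b : Ext.{w'} Y Z j)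
    (h : i + j = n) : a.comp (m • b) h = m • (a.comp b h) :=
  map_zsmul (AddMonoidHom.mk' (fun b : Ext.{w'} Y Z j => a.comp b h) (fun _ _ => Ext.comp_add _ _ _ _)) m b

variable {T' T T'' : A ⥤ B} [T'.Additive] [T.Additive] [T''.Additive]
  [PreservesFiniteLimits T'] [PreservesFiniteColimits T']
  [PreservesFiniteLimits T] [PreservesFiniteColimits T]
  [PreservesFiniteLimits T''] [PreservesFiniteColimits T'']
  (α : T' ⟶ T) (β : T ⟶ T'') (w : ∀ M, α.app M ≫ β.app M = 0)
  (hex : ∀ M, (ShortComplex.mk (α.app M) (β.app M) (w M)).ShortExact)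

/-- The class `z_M` of `0 → T' M → T M → T'' M → 0`. -/
noncomputable def zc (M : A) : Ext.{w'} (T''.obj M) (T'.obj M) 1 := (hex M).extClass

omit [HasExt.{w} A] in
/-- Anticommutation for the class of a short exact sequence. -/
theorem anticomm (S : ShortComplex A) (hS : S.ShortExact)
    (s' : Ext.{w'} (T'.obj S.X₃) (T'.obj S.X₁) 1) (hs' : s' = (hS.map_of_exact T').extClass)
    (s'' : Ext.{w'} (T''.obj S.X₃) (T''.obj S.X₁) 1) (hs'' : s'' = (hS.map_of_exact T'').extClass) :
    (zc α β w hex S.X₃).comp s' rfl + s''.comp (zc α β w hex S.X₁) rfl =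
      (0 : Ext.{w'} (T''.obj S.X₃) (T'.obj S.X₁) 2) := by
  rw [hs', hs'']
  exact ThreeByThree.anticomm (S.mapNatTrans α) (S.mapNatTrans β) (w _) (w _) (w _)
    (hS.map_of_exact T') (hS.map_of_exact T) (hS.map_of_exact T'') (hex _) (hex _) (hex _)

omit [Abelian A] [HasExt.{w} A] [T'.Additive] [T.Additive] [T''.Additive]
  [PreservesFiniteLimits T'] [PreservesFiniteColimits T']
  [PreservesFiniteLimits T] [PreservesFiniteColimits T]
  [PreservesFiniteLimits T''] [PreservesFiniteColimits T''] in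
/-- Degree zero. -/
theorem nat_zero {M N : A} (f : M ⟶ N) :
    (zc α β w hex M).comp (Ext.mk₀ (T'.map f)) (add_zero 1) =
      (Ext.mk₀ (T''.map f)).comp (zc α β w hex N : Ext.{w'} _ _ 1) (zero_add 1) :=
  ShortComplex.ShortExact.extClass_naturality (hex M) (hex N)
    { τ₁ := T'.map f, τ₂ := T.map f, τ₃ := T''.map f, comm₁₂ := (α.naturality f),
      comm₂₃ := (β.naturality f) }

variable [EnoughInjectives A]

/-- **Graded commutation** of `z` with classes of arbitrary degree. -/
theorem comm_ext {M N : A} (n : ℕ) (y : Ext.{w} M N n) :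
    (zc α β w hex M).comp (y.mapExactFunctor T') (add_comm 1 n) =
      ((-1 : ℤ) ^ n) • ((y.mapExactFunctor T'').comp (zc α β w hex N : Ext.{w'} _ _ 1) rfl) := by
  refine Etcore.ExtAdj.ext_induction (A := M) (fun N n y =>
    (zc α β w hex M).comp (y.mapExactFunctor T') (add_comm 1 n) =
      ((-1 : ℤ) ^ n) • ((y.mapExactFunctor T'').comp (zc α β w hex N : Ext.{w'} _ _ 1) rfl))
      ?_ ?_ N n y
  · intro N f
    rw [pow_zero, one_zsmul, Ext.mapExactFunctor_mk₀, Ext.mapExactFunctor_mk₀]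
    exact nat_zero α β w hex f
  · intro S hS _ n e he
    rw [Ext.mapExactFunctor_comp, Ext.mapExactFunctor_comp]
    have h := anticomm α β w hex S hS _ (Ext.mapExactFunctor_extClass T' hS) _
      (Ext.mapExactFunctor_extClass T'' hS)
    generalize hS.extClass.mapExactFunctor T' = s' at *
    generalize hS.extClass.mapExactFunctor T'' = s'' at *
    generalize e.mapExactFunctor T' = e' at *
    generalize e.mapExactFunctor T'' = e'' at *
    generalize zc α β w hex S.X₃ = z₃ at *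
    generalize zc α β w hex S.X₁ = z₁ at *
    generalize zc α β w hex M = z at *
    have h2 : z₃.comp s' rfl = -(s''.comp z₁ (rfl : 1 + 1 = 2)) := eq_neg_of_add_eq_zero_left h
    have h3 : z.comp (e'.comp s' (rfl : n + 1 = n + 1)) (add_comm 1 (n + 1)) =
        (z.comp e' (add_comm 1 n)).comp s' (rfl : (n + 1) + 1 = n + 1 + 1) :=
      (Ext.comp_assoc z e' s' (add_comm 1 n) rfl (by omega)).symm
    have h4 : (e''.comp z₃ (rfl : n + 1 = n + 1)).comp s' (rfl : (n + 1) + 1 = n + 1 + 1) =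
        e''.comp (z₃.comp s' (rfl : 1 + 1 = 2)) (rfl : n + 2 = n + 1 + 1) :=
      Ext.comp_assoc e'' z₃ s' rfl rfl (by omega)
    have h5 : (e''.comp s'' (rfl : n + 1 = n + 1)).comp z₁ (rfl : (n + 1) + 1 = n + 1 + 1) =
        e''.comp (s''.comp z₁ (rfl : 1 + 1 = 2)) (rfl : n + 2 = n + 1 + 1) :=
      Ext.comp_assoc e'' s'' z₁ rfl rfl (by omega)
    refine h3.trans ?_
    rw [he, zsmul_comp, h4, h2, Ext.comp_neg, h5, pow_succ, smul_neg, mul_neg_one, neg_smul]

end Groth.Agent.Sga4h.H914.ExtExact
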