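import Mathlib.LinearAlgebra.TensorProduct.Basic
import Mathlib.Algebra.DirectSum.Basic
import Mathlib.Algebra.Module.Equiv.Basic
import Mathlib.Algebra.BigOperators.NatAntidiagonal
import Mathlib.Data.Fintype.BigOperators

/-!
# Algebra of the Künneth decomposition: existence of decompositions and functionals
-/

set_option autoImplicit false

open TensorProduct

namespace Groth.Agent.Sga4h.H914.KunnAlg

variable {A B : ℕ → Type*} [∀ i, AddCommGroup (A i)] [∀ i, AddCommGroup (B i)] {C : Type*}
  [AddCommGroup C] {n : ℕ} (cr : ∀ i j, i + j = n → A i →+ B j →+ C)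

/-- The total map. -/
noncomputable def total : (DirectSum (Fin (n + 1)) fun i => A i ⊗[ℤ] B (n - i)) →+ C :=
  DirectSum.toAddMonoid fun i =>
    (TensorProduct.lift
      ((addMonoidHomLequivInt (A := B (n - i)) (B := C) ℤ).toLinearMap
        ∘ₗ (cr i (n - i) (by omega)).toIntLinearMap)).toAddMonoidHom

theorem total_of {i j : ℕ} (h : i + j = n) (a : A i) (b : B j) :
    ∃ x, total cr x = cr i j h a b ∧
      ∀ {E : Type*} [AddCommGroup E] (φ : ∀ i j, i + j = n → A i →+ B j →+ E),
        total φ x = φ i j h a b := by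
  obtain rfl : j = n - i := by omega
  refine ⟨DirectSum.of (fun i : Fin (n + 1) => A i ⊗[ℤ] B (n - i)) ⟨i, by omega⟩ (a ⊗ₜ[ℤ] b), ?_, ?_⟩
  · rw [total, DirectSum.toAddMonoid_of]
    rfl
  · intro E _ φ
    rw [total, DirectSum.toAddMonoid_of]
    rfl

variable (n) in
/-- The element `(i, j)` of the antidiagonal. -/
abbrev pr {i j : ℕ} (h : i + j = n) : ↥(Finset.antidiagonal n) := ⟨(i, j), Finset.mem_antidiagonal.2 h⟩

/-- `c` is a finite sum of products. -/
def Dec (c : C) : Prop :=
  ∃ (T : ↥(Finset.antidiagonal n) → Type) (_ : ∀ p, Fintype (T p))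
    (a : ∀ p : ↥(Finset.antidiagonal n), T p → A p.1.1) (b : ∀ p : ↥(Finset.antidiagonal n), T p → B p.1.2),
    c = ∑ p : ↥(Finset.antidiagonal n), ∑ t : T p,
      cr p.1.1 p.1.2 (Finset.mem_antidiagonal.1 p.2) (a p t) (b p t)

theorem Dec.zero : Dec cr 0 :=
  ⟨fun _ => Empty, fun _ => inferInstance, fun _ t => t.elim, fun _ t => t.elim, by simp⟩

theorem Dec.add {c c' : C} (h : Dec cr c) (h' : Dec cr c') : Dec cr (c + c') := by
  obtain ⟨T, iT, a, b, rfl⟩ := h
  obtain ⟨T', iT', a', b', rfl⟩ := h'
  refine ⟨fun p => T p ⊕ T' p, fun p => inferInstance, fun p => Sum.elim (a p) (a' p),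
    fun p => Sum.elim (b p) (b' p), ?_⟩
  rw [← Finset.sum_add_distrib]
  refine Finset.sum_congr rfl fun p _ => ?_
  rw [Fintype.sum_sum_type]
  rfl

theorem Dec.single {i j : ℕ} (h : i + j = n) (a : A i) (b : B j) : Dec cr (cr i j h a b) := by
  classical
  refine ⟨fun p => PLift (p = pr n h), fun p => inferInstance, fun p t => t.down ▸ a,
    fun p t => t.down ▸ b, ?_⟩
  rw [Finset.sum_eq_single (pr n h)]
  · rw [Fintype.sum_eq_single (PLift.up rfl) (fun x hx => absurd (Subsingleton.elim _ _) hx)]
  · intro p _ hp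
    refine Finset.sum_eq_zero fun t _ => absurd t.down hp
  · intro hp
    exact absurd (Finset.mem_univ _) hp

theorem dec_total (x : DirectSum (Fin (n + 1)) fun i => A i ⊗[ℤ] B (n - i)) : Dec cr (total cr x) := by
  induction x using DirectSum.induction_on with
  | zero => rw [map_zero]; exact Dec.zero cr
  | of i x =>
    rw [total, DirectSum.toAddMonoid_of]
    induction x using TensorProduct.induction_on with
    | zero => rw [map_zero]; exact Dec.zero cr
    | tmul a b => exact Dec.single cr _ a b
    | add x y hx hy => rw [map_add]; exact Dec.add cr hx hy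
  | add x y hx hy => rw [map_add]; exact Dec.add cr hx hy

/-- Existence of decompositions. -/
theorem dec_of_surjective (h : Function.Surjective (total cr)) (c : C) : Dec cr c := by
  obtain ⟨x, rfl⟩ := h c
  exact dec_total cr x

/-- Existence of functionals. -/
theorem exists_functional (h : Function.Bijective (total cr)) {E : Type*} [AddCommGroup E]
    (φ : ∀ i j, i + j = n → A i →+ B j →+ E) :
    ∃ Φ : C →+ E, ∀ (i j : ℕ) (h : i + j = n) (a : A i) (b : B j), Φ (cr i j h a b) = φ i j h a b := by
  refine ⟨(total φ).comp (AddEquiv.ofBijective (total cr) h).symm.toAddMonoidHom, fun i j hij a b => ?_⟩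
  obtain ⟨x, hx, hx'⟩ := total_of cr hij a b
  rw [← hx, ← hx' φ]
  change (total φ) ((AddEquiv.ofBijective (total cr) h).symm ((AddEquiv.ofBijective (total cr) h) x)) = _
  rw [AddEquiv.symm_apply_apply]

/-- Transport of bijectivity along an isomorphism of the target. -/
theorem bijective_of_equiv (h : Function.Bijective (total cr)) {C' : Type*} [AddCommGroup C']
    (e : C →+ C') (he : Function.Bijective e) (cr' : ∀ i j, i + j = n → A i →+ B j →+ C')
    (hcr : ∀ i j (h : i + j = n) a b, cr' i j h a b = e (cr i j h a b)) :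
    Function.Bijective (total cr') := by
  have h1 : total cr' = e.comp (total cr) := by
    apply DirectSum.addHom_ext
    intro i y
    change total cr' (DirectSum.of _ i y) = e (total cr (DirectSum.of _ i y))
    rw [total, total, DirectSum.toAddMonoid_of, DirectSum.toAddMonoid_of]
    induction y using TensorProduct.induction_on with
    | zero => rw [map_zero, map_zero, map_zero]
    | tmul a b => exact hcr _ _ _ a b
    | add x y hx hy => rw [map_add, map_add, map_add, hx, hy]
  rw [h1]
  exact he.comp h

end Groth.Agent.Sga4h.H914.KunnAlg
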