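/-
The linear algebra of the Lefschetz trace formula: from a decomposition of the class of the diagonal,
its support property and its normalisation to the alternating sum of traces.
-/
import Mathlib.LinearAlgebra.Trace
import Mathlib.LinearAlgebra.Dual.Lemmas
import Mathlib.LinearAlgebra.FiniteDimensional.Lemmas
import Mathlib.Algebra.BigOperators.Fin

set_option autoImplicit false

open Module

namespace Groth.Agent.Sga4h.H914.LinAlg

variable {K : Type*} [Field K]

/-- The trace of a sum of rank one operators. -/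
theorem trace_of_sum {V : Type*} [AddCommGroup V] [Module K V] [FiniteDimensional K V]
    {T : Type*} [Fintype T] (φ : T → V →ₗ[K] K) (v : T → V) (F : V →ₗ[K] V)
    (h : ∀ y, F y = ∑ t, φ t y • v t) : LinearMap.trace K V F = ∑ t, φ t (v t) := by
  have h1 : F = ∑ t, (φ t).smulRight (v t) := by
    ext y
    simp [h y]
  rw [h1, map_sum]
  refine Finset.sum_congr rfl fun t _ => ?_
  exact LinearMap.trace_smulRight (φ t) (v t)

/-- A pairing of finite dimensional spaces which is non-degenerate on the left both in one order and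
(through another pairing) in the other order is non-degenerate on the right. -/
theorem right_nondeg {V W : Type*} [AddCommGroup V] [Module K V] [FiniteDimensional K V]
    [AddCommGroup W] [Module K W] [FiniteDimensional K W]
    (B : V →ₗ[K] W →ₗ[K] K) (C : W →ₗ[K] V →ₗ[K] K)
    (hB : ∀ v, (∀ w, B v w = 0) → v = 0) (hC : ∀ w, (∀ v, C w v = 0) → w = 0)
    (w : W) (hw : ∀ v, B v w = 0) : w = 0 := by
  have i1 : Function.Injective B := by
    rw [injective_iff_map_eq_zero]
    intro v hv
    exact hB v fun w => by rw [hv]; rfl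
  have i2 : Function.Injective C := by
    rw [injective_iff_map_eq_zero]
    intro v hv
    exact hC v fun w => by rw [hv]; rfl
  have e1 : finrank K V ≤ finrank K W := by
    have := LinearMap.finrank_le_finrank_of_injective i1
    rwa [Subspace.dual_finrank_eq] at this
  have e2 : finrank K W ≤ finrank K V := by
    have := LinearMap.finrank_le_finrank_of_injective i2
    rwa [Subspace.dual_finrank_eq] at this
  have s1 : Function.Surjective B := by
    rw [← LinearMap.injective_iff_surjective_of_finrank_eq_finrank]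
    · exact i1
    · rw [Subspace.dual_finrank_eq]; omega
  rw [← forall_dual_apply_eq_zero_iff K w]
  intro φ
  obtain ⟨v, rfl⟩ := s1 φ
  exact hw v

section Main

variable (R S : ℕ → Type*) [∀ i, AddCommGroup (R i)] [∀ i, Module K (R i)]
  [∀ i, AddCommGroup (S i)] [∀ i, Module K (S i)]

/-- The data of the formal Lefschetz trace formula. `R i = H^i(X)`, `S i = H^i(X × X)`, `mul` the cup product
of `X`, `cr a b = p^*a · q^*b` the cross product, `lp x z = p^*x · z`, `lq x z = q^*x · z`, `e` the trace map of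
`X` in degree `N = 2d`, `π` the integration along the fibres of `p`. -/
structure Data (N : ℕ) where
  /-- the product of `H^*(X)` -/
  mul : ∀ {i j n : ℕ}, i + j = n → R i →ₗ[K] R j →ₗ[K] R n
  /-- the cross product -/
  cr : ∀ {i j n : ℕ}, i + j = n → R i →ₗ[K] R j →ₗ[K] S n
  /-- multiplication by `p^* x` -/
  lp : ∀ {i j n : ℕ}, i + j = n → R i →ₗ[K] S j →ₗ[K] S n
  /-- multiplication by `q^* x` -/
  lq : ∀ {i j n : ℕ}, i + j = n → R i →ₗ[K] S j →ₗ[K] S n
  /-- the trace map -/
  e : R N →ₗ[K] K
  /-- integration along the fibres of `p` -/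
  π : ∀ {i n : ℕ}, i + N = n → S n →ₗ[K] R i
  lp_cr : ∀ {x i j xi n m : ℕ} (h1 : i + j = n) (h2 : x + n = m) (h3 : x + i = xi) (h4 : xi + j = m)
    (c : R x) (a : R i) (b : R j), lp h2 c (cr h1 a b) = cr h4 (mul h3 c a) b
  lq_cr : ∀ {x i j xj n m : ℕ} (h1 : i + j = n) (h2 : x + n = m) (h3 : x + j = xj) (h4 : i + xj = m)
    (c : R x) (a : R i) (b : R j), lq h2 c (cr h1 a b) = (-1 : K) ^ (x * i) • cr h4 a (mul h3 c b)
  /-- integration on a cross product, in the right degree -/
  π_cr : ∀ {i n : ℕ} (h : i + N = n) (a : R i) (b : R N), π h (cr h a b) = e b • a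
  /-- integration on a cross product, in another degree -/
  π_cr' : ∀ {i j k n : ℕ} (h : i + j = n) (h' : k + N = n) (_ : j ≠ N) (a : R i) (b : R j),
    π h' (cr h a b) = 0

variable {R S}

variable {N : ℕ} (D : Data (K := K) R S N)
  {T : ↥(Finset.antidiagonal N) → Type*} [∀ j, Fintype (T j)]
  (a : ∀ p : ↥(Finset.antidiagonal N), T p → R p.1.1) (b : ∀ p : ↥(Finset.antidiagonal N), T p → R p.1.2)
  (Δ : S N)
  (hΔ : Δ = ∑ p : ↥(Finset.antidiagonal N), ∑ t : T p, D.cr (Finset.mem_antidiagonal.1 p.2) (a p t) (b p t))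
  (hsupp : ∀ {i n : ℕ} (h : i + N = n) (x : R i), D.lp h x Δ = D.lq h x Δ)
  (one : R 0)
  (hone : ∀ (i : ℕ) (x : R i), D.mul (add_zero i) x one = x)
  (hnorm : D.π (zero_add N) Δ = one)

/-- The element `(i, j)` of the antidiagonal. -/
abbrev pr {i j : ℕ} (h : i + j = N) : ↥(Finset.antidiagonal N) := ⟨(i, j), Finset.mem_antidiagonal.2 h⟩

include hΔ in
theorem π_lp {i n : ℕ} (h : i + N = n) (x : R i) :
    D.π h (D.lp h x Δ) = D.mul (add_zero i) x (D.π (zero_add N) Δ) := by
  have h0 : D.π (zero_add N) Δ = ∑ t : T (pr (zero_add N)), D.e (b _ t) • a (pr (zero_add N)) t := by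
    rw [hΔ, map_sum, Finset.sum_eq_single (pr (zero_add N))]
    · rw [map_sum]
      exact Finset.sum_congr rfl fun t _ => D.π_cr _ _ _
    · rintro ⟨⟨i', j'⟩, hp⟩ _ hj
      rw [map_sum]
      refine Finset.sum_eq_zero fun t _ => ?_
      refine D.π_cr' _ _ (fun hN => hj ?_) _ _
      rw [Finset.mem_antidiagonal] at hp
      simp only at hp hN
      simp only [Subtype.mk.injEq, Prod.mk.injEq]
      omega
    · intro h
      exact absurd (Finset.mem_univ _) h
  rw [h0, map_sum, hΔ, map_sum, map_sum, Finset.sum_eq_single (pr (zero_add N))]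
  · rw [map_sum, map_sum]
    refine Finset.sum_congr rfl fun t _ => ?_
    rw [D.lp_cr (h3 := add_zero i) (h4 := h), D.π_cr, map_smul]
  · rintro ⟨⟨i', j'⟩, hp⟩ _ hj
    rw [Finset.mem_antidiagonal] at hp
    simp only at hp
    rw [map_sum, map_sum]
    refine Finset.sum_eq_zero fun t _ => ?_
    rw [D.lp_cr (h3 := rfl) (h4 := by simp only; omega)]
    refine D.π_cr' _ _ (fun hN => hj ?_) _ _
    simp only at hN
    simp only [Subtype.mk.injEq, Prod.mk.injEq]
    omega
  · intro h
    exact absurd (Finset.mem_univ _) h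

include hΔ in
theorem π_lq {i j n : ℕ} (h : i + N = n) (hij : i + j = N) (x : R i) :
    D.π h (D.lq h x Δ) = (-1 : K) ^ i • ∑ t : T (pr hij), D.e (D.mul hij x (b _ t)) • a (pr hij) t := by
  rw [hΔ, map_sum, map_sum, Finset.sum_eq_single (pr hij)]
  · rw [map_sum, map_sum, Finset.smul_sum]
    refine Finset.sum_congr rfl fun t _ => ?_
    rw [D.lq_cr (h3 := hij) (h4 := h), map_smul, D.π_cr]
    congr 1
    exact neg_one_pow_congr (by rw [Nat.even_mul, or_self])
  · rintro ⟨⟨i', j'⟩, hp⟩ _ hj
    rw [Finset.mem_antidiagonal] at hp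
    simp only at hp
    rw [map_sum, map_sum]
    refine Finset.sum_eq_zero fun t _ => ?_
    rw [D.lq_cr (h3 := rfl) (h4 := by simp only; omega), map_smul]
    rw [D.π_cr' _ _ (fun hN => hj ?_) _ _, smul_zero]
    simp only at hN
    simp only [Subtype.mk.injEq, Prod.mk.injEq]
    omega
  · intro h
    exact absurd (Finset.mem_univ _) h

include hΔ hsupp hone hnorm in
/-- The reproducing formula. -/
theorem reprod {i j : ℕ} (hij : i + j = N) (x : R i) :
    x = (-1 : K) ^ i • ∑ t : T (pr hij), D.e (D.mul hij x (b _ t)) • a (pr hij) t := by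
  rw [← π_lq D a b Δ hΔ rfl hij x, ← hsupp, π_lp D a b Δ hΔ, hnorm, hone]

include hΔ hsupp hone hnorm in
theorem nondeg {i j : ℕ} (hij : i + j = N) (x : R i) (hx : ∀ y, D.e (D.mul hij x y) = 0) : x = 0 := by
  rw [reprod D a b Δ hΔ hsupp one hone hnorm hij x]
  rw [Finset.sum_eq_zero fun t _ => by rw [hx, zero_smul], smul_zero]

include hΔ hsupp hone hnorm in
/-- The other reproducing formula. -/
theorem reprod' [∀ i, FiniteDimensional K (R i)] {i j : ℕ} (hij : i + j = N) (y : R j) :
    y = (-1 : K) ^ i • ∑ t : T (pr hij), D.e (D.mul hij (a _ t) y) • b (pr hij) t := by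
  rw [← sub_eq_zero]
  have hji : j + i = N := by omega
  refine right_nondeg ((LinearMap.compr₂ (D.mul hij) D.e)) ((LinearMap.compr₂ (D.mul hji) D.e))
    (fun v hv => nondeg D a b Δ hΔ hsupp one hone hnorm hij v hv)
    (fun v hv => nondeg D a b Δ hΔ hsupp one hone hnorm hji v hv) _ fun x => ?_
  rw [LinearMap.compr₂_apply, map_sub, map_sub, sub_eq_zero]
  conv_lhs => rw [reprod D a b Δ hΔ hsupp one hone hnorm hij x]
  simp only [map_smul, map_sum, LinearMap.smul_apply, LinearMap.sum_apply, smul_eq_mul]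
  congr 1
  refine Finset.sum_congr rfl fun t _ => ?_
  rw [mul_comm]

include hΔ hsupp hone hnorm in
/-- **The formal Lefschetz trace formula.** -/
theorem lefschetz [∀ i, FiniteDimensional K (R i)] (hN : Even N) (F : ∀ j, R j →ₗ[K] R j)
    (G : S N →ₗ[K] R N)
    (hG : ∀ {i j : ℕ} (h : i + j = N) (x : R i) (y : R j), G (D.cr h x y) = D.mul h x (F j y)) :
    ∑ j ∈ Finset.range (N + 1), (-1 : K) ^ j * LinearMap.trace K (R j) (F j) = D.e (G Δ) := by
  have key : ∀ {i j : ℕ} (hij : i + j = N), (-1 : K) ^ j * LinearMap.trace K (R j) (F j) =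
      ∑ t : T (pr hij), D.e (D.mul hij (a _ t) (F j (b _ t))) := by
    intro i j hij
    rw [trace_of_sum (T := T (pr hij))
      (fun t => (-1 : K) ^ i • (D.e.comp ((D.mul hij (a _ t)))))
      (fun t => F j (b (pr hij) t)) (F j) fun y => ?_]
    · rw [Finset.mul_sum]
      refine Finset.sum_congr rfl fun t _ => ?_
      rw [LinearMap.smul_apply, smul_eq_mul, ← mul_assoc, ← pow_add, LinearMap.comp_apply,
        Even.neg_one_pow (by rw [add_comm, hij]; exact hN), one_mul]
    · conv_lhs => rw [reprod' D a b Δ hΔ hsupp one hone hnorm hij y]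
      rw [map_smul, map_sum, Finset.smul_sum]
      refine Finset.sum_congr rfl fun t _ => ?_
      rw [map_smul, LinearMap.smul_apply, smul_eq_mul, smul_smul, LinearMap.comp_apply]
  rw [hΔ, map_sum, map_sum, Finset.univ_eq_attach, ← Finset.Nat.sum_antidiagonal_eq_sum_range_succ
    (fun j _ => (-1 : K) ^ j * LinearMap.trace K (R j) (F j)), ← Finset.Nat.sum_antidiagonal_swap,
    ← Finset.sum_attach]
  refine Finset.sum_congr rfl fun p _ => ?_
  simp only [Prod.fst_swap]
  rw [key (Finset.mem_antidiagonal.1 p.2), map_sum, map_sum]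
  refine Finset.sum_congr rfl fun t _ => ?_
  rw [hG]

include hΔ hsupp hone hnorm in
/-- **The formal Lefschetz trace formula**, for the pull-back `G` along `(f, 1)`: no duality is needed. -/
theorem lefschetz' [∀ i, FiniteDimensional K (R i)] (F : ∀ j, R j →ₗ[K] R j)
    (G : S N →ₗ[K] R N)
    (hG : ∀ {i j : ℕ} (h : i + j = N) (x : R i) (y : R j), G (D.cr h x y) = D.mul h (F i x) y) :
    ∑ j ∈ Finset.range (N + 1), (-1 : K) ^ j * LinearMap.trace K (R j) (F j) = D.e (G Δ) := by
  have key : ∀ {i j : ℕ} (hij : i + j = N), (-1 : K) ^ i * LinearMap.trace K (R i) (F i) =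
      ∑ t : T (pr hij), D.e (D.mul hij (F i (a _ t)) (b _ t)) := by
    intro i j hij
    rw [trace_of_sum (T := T (pr hij))
      (fun t => (-1 : K) ^ i • (D.e.comp ((D.mul hij).flip (b _ t))))
      (fun t => F i (a (pr hij) t)) (F i) fun y => ?_]
    · rw [Finset.mul_sum]
      refine Finset.sum_congr rfl fun t _ => ?_
      rw [LinearMap.smul_apply, smul_eq_mul, ← mul_assoc, ← pow_add, LinearMap.comp_apply,
        Even.neg_one_pow (Even.add_self i), one_mul, LinearMap.flip_apply]
    · conv_lhs => rw [reprod D a b Δ hΔ hsupp one hone hnorm hij y]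
      rw [map_smul, map_sum, Finset.smul_sum]
      refine Finset.sum_congr rfl fun t _ => ?_
      rw [map_smul, LinearMap.smul_apply, smul_eq_mul, smul_smul, LinearMap.comp_apply,
        LinearMap.flip_apply]
  rw [hΔ, map_sum, map_sum, Finset.univ_eq_attach, ← Finset.Nat.sum_antidiagonal_eq_sum_range_succ
    (fun j _ => (-1 : K) ^ j * LinearMap.trace K (R j) (F j)), ← Finset.sum_attach]
  refine Finset.sum_congr rfl fun p _ => ?_
  rw [key (Finset.mem_antidiagonal.1 p.2), map_sum, map_sum]
  refine Finset.sum_congr rfl fun t _ => ?_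
  rw [hG]

end Main

end Groth.Agent.Sga4h.H914.LinAlg
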