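import Groth.Agent.Sga4h.H914.HR
import Groth.Agent.Sga4h.H914.LinAlg
import Groth.Agent.Sga4h.H914.KunnAlg

/-!
# The formal Lefschetz formula in `H^*(X, Λ)`
-/

set_option autoImplicit false

universe u

open CategoryTheory CategoryTheory.Limits AlgebraicGeometry

namespace Groth.Agent.Sga4h.H914.Form

open TensComm

/-- A biadditive map of `ℤ/ℓ`-modules is bilinear. -/
def bil (ℓ : ℕ) {A B C : Type*} [AddCommGroup A] [AddCommGroup B] [AddCommGroup C]
    [Module (ZMod ℓ) A] [Module (ZMod ℓ) B] [Module (ZMod ℓ) C] (φ : A →+ B →+ C) :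
    A →ₗ[ZMod ℓ] B →ₗ[ZMod ℓ] C :=
  LinearMap.mk₂ (ZMod ℓ) (fun a b => φ a b) (fun a a' b => by rw [map_add, AddMonoidHom.add_apply])
    (fun c a b => ZMod.map_smul (φ.flip b) c a) (fun a b b' => map_add _ _ _)
    (fun c a b => ZMod.map_smul (φ a) c b)

@[simp]
theorem bil_apply (ℓ : ℕ) {A B C : Type*} [AddCommGroup A] [AddCommGroup B] [AddCommGroup C]
    [Module (ZMod ℓ) A] [Module (ZMod ℓ) B] [Module (ZMod ℓ) C] (φ : A →+ B →+ C) (a : A) (b : B) :
    bil ℓ φ a b = φ a b := rfl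

/-- `(a, b) ↦ e(b) • a`. -/
def base (ℓ : ℕ) {A B : Type*} [AddCommGroup A] [AddCommGroup B] [Module (ZMod ℓ) A]
    (e : B →+ ZMod ℓ) : A →+ B →+ A :=
  AddMonoidHom.mk' (fun a => AddMonoidHom.mk' (fun b => e b • a)
    (fun b b' => by rw [map_add, add_smul]))
    (fun a a' => AddMonoidHom.ext fun b => smul_add _ _ _)

theorem base_apply (ℓ : ℕ) {A B : Type*} [AddCommGroup A] [AddCommGroup B] [Module (ZMod ℓ) A]
    (e : B →+ ZMod ℓ) (a : A) (b : B) : base ℓ e a b = e b • a := rfl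

section Phi

variable (ℓ : ℕ) {R : ℕ → Type*} [∀ i, AddCommGroup (R i)] [∀ i, Module (ZMod ℓ) (R i)] {N : ℕ}
  (e : R N →+ ZMod ℓ)

open Classical in
/-- The functional defining the integration along the fibres. -/
noncomputable def phi (i i' j' : ℕ) : R i' →+ R j' →+ R i :=
  if h : i' = i ∧ j' = N then by obtain ⟨rfl, rfl⟩ := h; exact base ℓ e else 0

theorem phi_self (i : ℕ) : phi ℓ e i i N = base ℓ e := by
  unfold phi
  rw [dif_pos ⟨rfl, rfl⟩]

theorem phi_ne (i i' j' : ℕ) (h : j' ≠ N) : phi ℓ e i i' j' = 0 := dif_neg fun h' => h h'.2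

end Phi

variable (ℓ : ℕ) [Fact ℓ.Prime] {Λ : Type (u + 1)} [CommRing Λ] [AllFlat Λ] {X S : Scheme.{u}}
  (p q : S ⟶ X) [∀ i, Module (ZMod ℓ) (HR Λ X i)] [∀ i, Module (ZMod ℓ) (HR Λ S i)]
  (hK : ∀ n, Function.Bijective (KunnAlg.total (n := n) (HR.cr (Λ := Λ) p q)))
  {N : ℕ} (e : HR Λ X N →+ ZMod ℓ)

theorem neg_one_smul_int {A : Type*} [AddCommGroup A] [Module (ZMod ℓ) A] (m : ℕ) (a : A) :
    ((-1 : ℤ) ^ m) • a = ((-1 : ZMod ℓ) ^ m) • a := by
  rcases neg_one_pow_eq_or ℤ m with h | h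
  · rcases Nat.even_or_odd m with hm | hm
    · rw [h, hm.neg_one_pow, one_smul, one_smul]
    · rw [hm.neg_one_pow] at h
      omega
  · rcases Nat.even_or_odd m with hm | hm
    · rw [hm.neg_one_pow] at h
      omega
    · rw [h, hm.neg_one_pow, neg_smul, neg_smul, one_smul, one_smul]

/-- The data of the formal Lefschetz formula. -/
noncomputable def data : LinAlg.Data (K := ZMod ℓ) (HR Λ X) (HR Λ S) N where
  mul h := bil ℓ (HR.mul h)
  cr h := bil ℓ (HR.cr p q _ _ h)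
  lp h := bil ℓ ((HR.mul h).comp (HR.pb p _))
  lq h := bil ℓ ((HR.mul h).comp (HR.pb q _))
  e := e.toZModLinearMap ℓ
  π {i n} h := (Classical.choose (KunnAlg.exists_functional (HR.cr (Λ := Λ) p q) (hK n)
    (fun i' j' _ => phi ℓ e i i' j'))).toZModLinearMap ℓ
  lp_cr {x i j xi n m} h1 h2 h3 h4 c a b := by
    simp only [bil_apply]
    change HR.mul h2 (HR.pb p x c) (HR.cr p q i j h1 a b) = HR.cr p q xi j h4 (HR.mul h3 c a) b
    rw [HR.cr_apply, HR.cr_apply, HR.pb_mul, HR.mul_assoc h3 h1 h4 h2]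
  lq_cr {x i j xj n m} h1 h2 h3 h4 c a b := by
    simp only [bil_apply]
    change HR.mul h2 (HR.pb q x c) (HR.cr p q i j h1 a b) =
      (-1 : ZMod ℓ) ^ (x * i) • HR.cr p q i xj h4 a (HR.mul h3 c b)
    rw [HR.cr_apply, HR.cr_apply, HR.pb_mul, ← HR.mul_assoc (ab := x + i) rfl h1 (by omega) h2,
      HR.mul_comm (k := x + i) rfl (by omega) (HR.pb q x c) (HR.pb p i a), map_zsmul,
      AddMonoidHom.coe_smul, Pi.smul_apply, neg_one_smul_int ℓ, HR.mul_assoc (by omega) h3 (by omega) h4]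
  π_cr {i n} h a b := by
    change Classical.choose (KunnAlg.exists_functional (HR.cr (Λ := Λ) p q) (hK n)
      (fun i' j' _ => phi ℓ e i i' j')) (HR.cr p q i N h a b) = e b • a
    rw [Classical.choose_spec (KunnAlg.exists_functional (HR.cr (Λ := Λ) p q) (hK n)
      (fun i' j' _ => phi ℓ e i i' j')) i N h a b, phi_self, base_apply]
  π_cr' {i j k n} h h' hj a b := by
    change Classical.choose (KunnAlg.exists_functional (HR.cr (Λ := Λ) p q) (hK n)
      (fun i' j' _ => phi ℓ e k i' j')) (HR.cr p q i j h a b) = 0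
    rw [Classical.choose_spec (KunnAlg.exists_functional (HR.cr (Λ := Λ) p q) (hK n)
      (fun i' j' _ => phi ℓ e k i' j')) i j h a b, phi_ne _ _ _ _ _ hj]
    rfl

/-- Integration along the fibres of a decomposed class. -/
theorem π_sum {T : ↥(Finset.antidiagonal N) → Type} [∀ j, Fintype (T j)]
    (a : ∀ p : ↥(Finset.antidiagonal N), T p → HR Λ X p.1.1)
    (b : ∀ p : ↥(Finset.antidiagonal N), T p → HR Λ X p.1.2) :
    (data ℓ p q hK e).π (zero_add N) (∑ p' : ↥(Finset.antidiagonal N), ∑ t : T p',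
      HR.cr p q p'.1.1 p'.1.2 (Finset.mem_antidiagonal.1 p'.2) (a p' t) (b p' t)) =
      ∑ t : T (LinAlg.pr (zero_add N)), e (b _ t) • a (LinAlg.pr (zero_add N)) t := by
  rw [map_sum, Finset.sum_eq_single (LinAlg.pr (zero_add N))]
  · rw [map_sum]
    exact Finset.sum_congr rfl fun t _ => (data ℓ p q hK e).π_cr _ _ _
  · rintro ⟨⟨i', j'⟩, hp⟩ _ hj
    rw [map_sum]
    refine Finset.sum_eq_zero fun t _ => ?_
    refine (data ℓ p q hK e).π_cr' (Finset.mem_antidiagonal.1 hp) _ (fun hN => hj ?_) _ _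
    rw [Finset.mem_antidiagonal] at hp
    simp only at hp hN
    simp only [Subtype.mk.injEq, Prod.mk.injEq]
    omega
  · intro h
    exact absurd (Finset.mem_univ _) h

include hK in
/-- A decomposition of the class of the diagonal, with its normalisation. -/
theorem exists_dec (c : HR Λ S N)
    {T : Scheme.{u}} (t : T ⟶ X) (s : X ⟶ S) (a : X ⟶ T) (hsp : s ≫ p = a ≫ t) (hsq : s ≫ q = 𝟙 X)
    (hT : ∀ (i : ℕ), 0 < i → ∀ y : HR Λ T i, y = 0)
    (h0 : ∀ y : HR Λ X 0, ∃ r : ZMod ℓ, y = r • HR.one Λ X)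
    (hc : e (HR.pb s N c) = 1) :
    ∃ (T' : ↥(Finset.antidiagonal N) → Type) (_ : ∀ p, Fintype (T' p))
      (x : ∀ p : ↥(Finset.antidiagonal N), T' p → HR Λ X p.1.1)
      (y : ∀ p : ↥(Finset.antidiagonal N), T' p → HR Λ X p.1.2),
      c = ∑ p' : ↥(Finset.antidiagonal N), ∑ t : T' p',
        HR.cr p q p'.1.1 p'.1.2 (Finset.mem_antidiagonal.1 p'.2) (x p' t) (y p' t) ∧
      (data ℓ p q hK e).π (zero_add N) c = HR.one Λ X := by
  obtain ⟨T', _, x, y, hxy⟩ := KunnAlg.dec_of_surjective _ (hK N).2 c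
  refine ⟨T', _, x, y, hxy, ?_⟩
  choose r hr using h0
  have h1 : HR.pb s N c = ∑ t : T' (LinAlg.pr (zero_add N)), r (x _ t) • y (LinAlg.pr (zero_add N)) t := by
    rw [hxy, map_sum, Finset.sum_eq_single (LinAlg.pr (zero_add N))]
    · rw [map_sum]
      refine Finset.sum_congr rfl fun t' _ => ?_
      rw [HR.cr_apply, HR.pb_mul, HR.pb_pb s p _ hsp, HR.pb_pb s q _ hsq, HR.pb_id _ rfl]
      have e1 : HR.pb (a ≫ t) 0 (x (LinAlg.pr (zero_add N)) t') =
          r (x (LinAlg.pr (zero_add N)) t') • HR.one Λ X := by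
        conv_lhs => rw [hr (x (LinAlg.pr (zero_add N)) t')]
        rw [ZMod.map_smul, HR.pb_one]
      refine (congrArg (fun z => HR.mul _ z (y (LinAlg.pr (zero_add N)) t')) e1).trans ?_
      change bil ℓ (HR.mul (zero_add N)) (r (x (LinAlg.pr (zero_add N)) t') • HR.one Λ X)
        (y (LinAlg.pr (zero_add N)) t') = _
      rw [map_smul, LinearMap.smul_apply, bil_apply, HR.one_mul]
    · rintro ⟨⟨i', j'⟩, hp⟩ _ hj
      rw [Finset.mem_antidiagonal] at hp
      simp only at hp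
      rw [map_sum]
      refine Finset.sum_eq_zero fun t' _ => ?_
      have hi : 0 < i' := by
        rcases Nat.eq_zero_or_pos i' with h | h
        · exfalso
          apply hj
          simp only [Subtype.mk.injEq, Prod.mk.injEq]
          omega
        · exact h
      rw [HR.cr_apply, HR.pb_mul, HR.pb_pb s p _ hsp, ← HR.pb_pb a t _ rfl, hT i' hi (HR.pb t i' _), map_zero,
        map_zero, AddMonoidHom.zero_apply]
    · intro h
      exact absurd (Finset.mem_univ _) h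
  rw [hxy, π_sum]
  have h2 : e (HR.pb s N c) = ∑ t : T' (LinAlg.pr (zero_add N)), r (x _ t) * e (y (LinAlg.pr (zero_add N)) t) := by
    rw [h1, map_sum]
    exact Finset.sum_congr rfl fun t' _ => ZMod.map_smul e _ _
  have h3 : ∑ t : T' (LinAlg.pr (zero_add N)), e (y _ t) • x (LinAlg.pr (zero_add N)) t =
      (∑ t : T' (LinAlg.pr (zero_add N)), r (x _ t) * e (y (LinAlg.pr (zero_add N)) t)) • HR.one Λ X := by
    rw [Finset.sum_smul]
    refine Finset.sum_congr rfl fun t' _ => ?_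
    conv_lhs => rw [hr (x (LinAlg.pr (zero_add N)) t')]
    rw [smul_smul, mul_comm]
  rw [h3, ← h2, hc, one_smul]

include hK in
/-- Finiteness of `H^i(X, Λ)`, `i ≤ N`. -/
theorem finiteDimensional (c : HR Λ S N)
    (hsupp : ∀ {i n : ℕ} (h : i + N = n) (x : HR Λ X i),
      HR.mul h (HR.pb p i x) c = HR.mul h (HR.pb q i x) c)
    {T : Scheme.{u}} (t : T ⟶ X) (s : X ⟶ S) (a : X ⟶ T) (hsp : s ≫ p = a ≫ t) (hsq : s ≫ q = 𝟙 X)
    (hT : ∀ (i : ℕ), 0 < i → ∀ y : HR Λ T i, y = 0)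
    (h0 : ∀ y : HR Λ X 0, ∃ r : ZMod ℓ, y = r • HR.one Λ X)
    (hc : e (HR.pb s N c) = 1) {i j : ℕ} (hij : i + j = N) :
    FiniteDimensional (ZMod ℓ) (HR Λ X i) := by
  classical
  obtain ⟨T', _, x, y, hxy, hn⟩ := exists_dec ℓ p q hK e c t s a hsp hsq hT h0 hc
  refine ⟨⟨Finset.univ.image (x (LinAlg.pr hij)), ?_⟩⟩
  rw [eq_top_iff]
  intro z _
  rw [LinAlg.reprod (data ℓ p q hK e) x y c hxy hsupp (HR.one Λ X) (fun i x => HR.mul_one x) hn hij z]
  refine Submodule.smul_mem _ _ (Submodule.sum_mem _ fun t' _ => Submodule.smul_mem _ _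
    (Submodule.subset_span ?_))
  rw [Finset.coe_image, Finset.coe_univ, Set.image_univ]
  exact ⟨t', rfl⟩

include hK in
/-- **The formal Lefschetz formula.** -/
theorem lefschetz [∀ i, FiniteDimensional (ZMod ℓ) (HR Λ X i)] (c : HR Λ S N)
    (hsupp : ∀ {i n : ℕ} (h : i + N = n) (x : HR Λ X i),
      HR.mul h (HR.pb p i x) c = HR.mul h (HR.pb q i x) c)
    {T : Scheme.{u}} (t : T ⟶ X) (s : X ⟶ S) (a : X ⟶ T) (hsp : s ≫ p = a ≫ t) (hsq : s ≫ q = 𝟙 X)
    (hT : ∀ (i : ℕ), 0 < i → ∀ y : HR Λ T i, y = 0)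
    (h0 : ∀ y : HR Λ X 0, ∃ r : ZMod ℓ, y = r • HR.one Λ X)
    (hc : e (HR.pb s N c) = 1) (f : X ⟶ X) (γ : X ⟶ S) (hγp : γ ≫ p = f) (hγq : γ ≫ q = 𝟙 X) :
    ∑ j ∈ Finset.range (N + 1), (-1 : ZMod ℓ) ^ j *
      LinearMap.trace (ZMod ℓ) (HR Λ X j) ((HR.pb f j).toZModLinearMap ℓ) = e (HR.pb γ N c) := by
  obtain ⟨T', _, x, y, hxy, hn⟩ := exists_dec ℓ p q hK e c t s a hsp hsq hT h0 hc
  refine LinAlg.lefschetz' (data ℓ p q hK e) x y c hxy hsupp (HR.one Λ X) (fun i x => HR.mul_one x)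
    hn (fun j => (HR.pb f j).toZModLinearMap ℓ) ((HR.pb γ N).toZModLinearMap ℓ) ?_
  intro i j h x y
  change HR.pb γ N (HR.mul h (HR.pb p i x) (HR.pb q j y)) = HR.mul h (HR.pb f i x) y
  rw [HR.pb_mul, HR.pb_pb γ p f hγp, HR.pb_pb γ q _ hγq, HR.pb_id _ rfl]

end Groth.Agent.Sga4h.H914.Form
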