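import Groth.Agent.Sga4h.H914.ExtExact
import Groth.Agent.Sga4h.H914.AbsRes

/-!
# The interchange law for `Ext` and exact bifunctors

`T : A ⥤ C ⥤ B`; for `x ∈ Ext^m(K, L)` in `A` and `y ∈ Ext^n(M, N)` in `C`:
`T(x, M) · T(L, y) = (-1)^{mn} T(K, y) · T(x, N)` in `Ext^{m+n}(T(K, M), T(L, N))` (`interchange`).
`P` is a class of objects `K` of `A` for which `T(K, -)` is exact and which contains enough objects (`hkill`).
-/

set_option autoImplicit false

universe w w' w'' v v' v'' u u' u''

open CategoryTheory CategoryTheory.Limits CategoryTheory.Abelian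

namespace Groth.Agent.Sga4h.H914.Interchange

open ExtExact AbsRes

variable {A : Type u} [Category.{v} A] [Abelian A] [HasExt.{w} A]
variable {C : Type u''} [Category.{v''} C] [Abelian C] [HasExt.{w''} C] [EnoughInjectives C]
variable {B : Type u'} [Category.{v'} B] [Abelian B] [HasExt.{w'} B]

section Class

variable (T : A ⥤ C ⥤ B) (M : C) (G : A ⥤ B) [G.Additive] [PreservesFiniteLimits G]
  [PreservesFiniteColimits G] (e : G ≅ T.flip.obj M)

/-- The map `Ext^m(K, L) → Ext^m(T(K, M), T(L, M))`. -/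
noncomputable def rM {K L : A} (m : ℕ) (x : Ext.{w} K L m) :
    Ext.{w'} ((T.obj K).obj M) ((T.obj L).obj M) m :=
  res G (show G.obj K ≅ (T.obj K).obj M from e.app K) (show G.obj L ≅ (T.obj L).obj M from e.app L) m x

theorem rM_comp {K L L' : A} {i j n : ℕ} (h : i + j = n) (x : Ext.{w} K L i) (y : Ext.{w} L L' j) :
    (rM T M G e n (x.comp y h) : Ext.{w'} _ _ _) = (rM T M G e i x).comp (rM T M G e j y) h :=
  res_comp _ _ _ _ h x y

theorem rM_mk₀ {K L : A} (f : K ⟶ L) :
    (rM T M G e 0 (Ext.mk₀ f) : Ext.{w'} _ _ _) = Ext.mk₀ ((T.map f).app M) := by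
  refine (res_mk₀ _ _ _ f).trans ?_
  congr 1
  have h := e.hom.naturality f
  change e.inv.app K ≫ G.map f ≫ e.hom.app L = (T.map f).app M
  rw [h, Iso.inv_hom_id_app_assoc]
  rfl

theorem rM_extClass {K' E K : A} (i : K' ⟶ E) (p : E ⟶ K) (w : i ≫ p = 0)
    (h : (ShortComplex.mk i p w).ShortExact)
    (w' : (T.map i).app M ≫ (T.map p).app M = 0)
    (h' : (ShortComplex.mk ((T.map i).app M) ((T.map p).app M) w').ShortExact) :
    rM T M G e 1 h.extClass = (h'.extClass : Ext.{w'} ((T.obj K).obj M) ((T.obj K').obj M) 1) := by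
  let φ : (ShortComplex.mk i p w).map G ⟶ ShortComplex.mk ((T.map i).app M) ((T.map p).app M) w' :=
    { τ₁ := e.hom.app K'
      τ₂ := e.hom.app E
      τ₃ := e.hom.app K
      comm₁₂ := (e.hom.naturality i).symm
      comm₂₃ := (e.hom.naturality p).symm }
  have h1 := ShortComplex.ShortExact.extClass_naturality (h.map_of_exact G) h' φ
  have h2 := Ext.mapExactFunctor_extClass G h
  change ((Ext.mk₀ (e.inv.app K)).comp (h.extClass.mapExactFunctor G) (zero_add 1)).comp
    (Ext.mk₀ (e.hom.app K')) (add_zero 1) = h'.extClass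
  rw [h2, Ext.comp_assoc_of_third_deg_zero]
  have h3 : (h.map_of_exact G).extClass.comp (Ext.mk₀ (e.hom.app K')) (add_zero 1) =
    (Ext.mk₀ (e.hom.app K)).comp (h'.extClass : Ext.{w'} _ _ 1) (zero_add 1) := h1
  refine (congrArg (fun t => (Ext.mk₀ (e.inv.app K)).comp t (zero_add 1)) h3).trans ?_
  refine (Ext.mk₀_comp_mk₀_assoc _ _ _).trans ?_
  rw [Iso.inv_hom_id_app]
  exact Ext.mk₀_id_comp _

end Class

variable (T : A ⥤ C ⥤ B) [∀ K, (T.obj K).Additive] [∀ K, PreservesFiniteColimits (T.obj K)]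
  (P : A → Prop) (hP : ∀ K, P K → PreservesFiniteLimits (T.obj K))
  (hkill : ∀ {K L : A} (m : ℕ) (x : Ext.{w} K L (m + 1)), P K → ∃ (K' E : A) (i : K' ⟶ E) (p : E ⟶ K)
    (w : i ≫ p = 0) (h : (ShortComplex.mk i p w).ShortExact) (x' : Ext.{w} K' L m),
    P K' ∧ P E ∧ x = h.extClass.comp x' (add_comm 1 m))
  (hex : ∀ {K' E K : A} (i : K' ⟶ E) (p : E ⟶ K) (w : i ≫ p = 0)
    (_ : (ShortComplex.mk i p w).ShortExact) (_ : P K') (_ : P E) (_ : P K) (M : C),
    ∃ w' : (T.map i).app M ≫ (T.map p).app M = 0,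
      (ShortComplex.mk ((T.map i).app M) ((T.map p).app M) w').ShortExact)
  {M N : C} (GM GN : A ⥤ B) [GM.Additive] [GN.Additive] [PreservesFiniteLimits GM]
  [PreservesFiniteColimits GM] [PreservesFiniteLimits GN] [PreservesFiniteColimits GN]
  (eM : GM ≅ T.flip.obj M) (eN : GN ≅ T.flip.obj N)

include hkill hex in
/-- **The interchange law.** -/
theorem interchange {n : ℕ} (y : Ext.{w''} M N n) (m : ℕ) : ∀ {K L : A} (hK : P K) (hL : P L)
    (x : Ext.{w} K L m),
    haveI := hP K hK
    haveI := hP L hL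
    (rM T M GM eM m x).comp (y.mapExactFunctor (T.obj L)) (rfl : m + n = m + n) =
    ((-1 : ℤ) ^ (m * n)) • ((y.mapExactFunctor (T.obj K)).comp (rM T N GN eN m x) (add_comm n m) :
        Ext.{w'} ((T.obj K).obj M) ((T.obj L).obj N) (m + n)) := by
  induction m with
  | zero =>
    intro K L hK hL x
    obtain ⟨f, rfl⟩ := (Ext.mk₀_bijective K L).2 x
    have i1 := hP K hK
    have i2 := hP L hL
    have h := Etcore.ExtAdj.mapExactFunctor_nat (T.map f) y
    rw [rM_mk₀, rM_mk₀, zero_mul, pow_zero, one_zsmul]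
    have e0 : 0 + n = n := zero_add n
    have h' : ∀ (q : ℕ) (hq : n = q), (Ext.mk₀ ((T.map f).app M)).comp (y.mapExactFunctor (T.obj L))
        ((zero_add n).trans hq) = (y.mapExactFunctor (T.obj K)).comp (Ext.mk₀ ((T.map f).app N))
        ((add_zero n).trans hq) := by
      intro q hq
      subst hq
      exact h.symm
    exact h' (0 + n) e0.symm
  | succ m ih =>
    intro K L hK hL x
    obtain ⟨K', E, i, p, w, h, x', hK', hE, rfl⟩ := hkill m x hK
    have i1 := hP K hK
    have i2 := hP L hL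
    have i3 := hP K' hK'
    have i4 := hP E hE
    have w' : ∀ M', (T.map i).app M' ≫ (T.map p).app M' = 0 := fun M' => (hex i p w h hK' hE hK M').1
    have hex' : ∀ M', (ShortComplex.mk ((T.map i).app M') ((T.map p).app M') (w' M')).ShortExact :=
      fun M' => (hex i p w h hK' hE hK M').2
    have hc := comm_ext (T.map i) (T.map p) w' hex' n y
    have hih := ih hK' hL x'
    rw [rM_comp, rM_comp, rM_extClass T M GM eM i p w h (w' M) (hex' M),
      rM_extClass T N GN eN i p w h (w' N) (hex' N)]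
    change (zc (T.map i) (T.map p) w' hex' M).comp (y.mapExactFunctor (T.obj K')) (add_comm 1 n) = _ at hc
    generalize hzM : zc (T.map i) (T.map p) w' hex' M = zM at hc
    generalize hzN : zc (T.map i) (T.map p) w' hex' N = zN at hc
    have hzM' : (hex' M).extClass = zM := hzM
    have hzN' : (hex' N).extClass = zN := hzN
    rw [hzM', hzN']
    generalize rM T M GM eM m x' = xM at *
    generalize rM T N GN eN m x' = xN at *
    generalize y.mapExactFunctor (T.obj K') = yK' at *
    generalize y.mapExactFunctor (T.obj K) = yK at *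
    generalize y.mapExactFunctor (T.obj L) = yL at *
    have h1 : (zM.comp xM (add_comm 1 m)).comp yL (rfl : m + 1 + n = m + 1 + n) =
        zM.comp (xM.comp yL (rfl : m + n = m + n)) (by omega) :=
      Ext.comp_assoc zM xM yL _ rfl (by omega)
    have h2 : zM.comp (yK'.comp xN (add_comm n m)) (by omega : 1 + (m + n) = m + 1 + n) =
        (zM.comp yK' (add_comm 1 n)).comp xN (by omega) :=
      (Ext.comp_assoc zM yK' xN _ _ (by omega)).symm
    have h3 : (yK.comp zN (rfl : n + 1 = n + 1)).comp xN (by omega : n + 1 + m = m + 1 + n) =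
        yK.comp (zN.comp xN (add_comm 1 m)) (by omega) :=
      Ext.comp_assoc yK zN xN _ _ (by omega)
    refine h1.trans ?_
    rw [hih, comp_zsmul, h2, hc, zsmul_comp, h3, smul_smul, ← pow_add]
    congr 2
    ring

end Groth.Agent.Sga4h.H914.Interchange
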