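import Groth.Agent.Sga4h.DualEt
import Groth.Agent.Sga5.H861.UnitComm
import Groth.Agent.Sga4h.H914.Interchange
import Groth.Agent.Sga4h.H914.CommAbs
import Groth.Agent.Sga4B.DualFormal
import Mathlib.Algebra.Field.ZMod

/-!
# Graded commutativity of `Ext^*(Λ_X, Λ_X)` over a commutative ring all of whose modules are flat

The same results as `TensExact`, `GradedComm`, but stated for `[CommRing Λ] [AllFlat Λ]` instead of `[Field Λ]`
(declarations about `Ext` in `EtModW.Mod Λ X` are much faster to type check for a variable commutative ring).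
-/

set_option autoImplicit false

universe u

open CategoryTheory CategoryTheory.Limits AlgebraicGeometry MonoidalCategory CategoryTheory.Abelian

namespace Groth.Agent.Sga4h.H914.TensComm

open Groth.Agent.Sga4h.ModDTensor

/-- All modules are flat. -/
class AllFlat (Λ : Type (u + 1)) [CommRing Λ] : Prop where
  flat : ∀ (M : Type (u + 1)) [AddCommGroup M] [Module Λ M], Module.Flat Λ M

theorem allFlat_of_isField (Λ : Type (u + 1)) [CommRing Λ] (h : IsField Λ) : AllFlat Λ where
  flat M _ _ := by
    let : Field Λ := h.toField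
    infer_instance

instance allFlat_zmod (ℓ : ℕ) [Fact ℓ.Prime] : AllFlat (ULift.{u + 1} (ZMod ℓ)) :=
  allFlat_of_isField _ (MulEquiv.isField (Field.toIsField (ZMod ℓ)) (ULift.ringEquiv (R := ZMod ℓ)).toMulEquiv)

variable (Λ : Type (u + 1)) [CommRing Λ] [AllFlat Λ] (X : Scheme.{u})

instance preservesFiniteLimits_tensorBi_obj (F : EtModW.Mod Λ X) :
    PreservesFiniteLimits ((EtModD.tensorBi Λ X).obj F) := by
  have h1 : PreservesFiniteLimits ((EtModD.tensorBi Λ X).obj ((sh Λ X).obj ((inc Λ X).obj F))) :=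
    DualEt.preservesFiniteLimits_tensorBi _ (fun V => AllFlat.flat _)
  have e : (sh Λ X).obj ((inc Λ X).obj F) ≅ F :=
    asIso ((sheafificationAdjunction X.smallEtaleTopology (ModuleCat.{u + 1} Λ)).counit.app F)
  exact preservesFiniteLimits_of_natIso ((EtModD.tensorBi Λ X).mapIso e)

instance preservesFiniteLimits_tensorBi_flip_obj (F : EtModW.Mod Λ X) :
    PreservesFiniteLimits ((EtModD.tensorBi Λ X).flip.obj F) :=
  preservesFiniteLimits_of_natIso (flipObjIso F).symm

open scoped Groth.Agent.Sga4B.ModEtInst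

open Interchange Sga5.H861.UnitComm

/-- Every class of positive degree is a product with the class of an extension. -/
theorem exists_factor {A : Type*} [Category A] [Abelian A] [HasExt.{u + 1} A] [EnoughInjectives A]
    {K L : A} (m : ℕ) (x : Ext.{u + 1} K L (m + 1)) :
    ∃ (K' E : A) (i : K' ⟶ E) (p : E ⟶ K)
    (w : i ≫ p = 0) (h : (ShortComplex.mk i p w).ShortExact) (x' : Ext.{u + 1} K' L m),
    x = h.extClass.comp x' (add_comm 1 m) := by
  obtain ⟨E, p, hp, hpe⟩ := Sga4B.DualFormal.exists_epi_kill m x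
  have hS : (ShortComplex.mk _ _ (kernel.condition p)).ShortExact :=
    { exact := ShortComplex.exact_kernel p }
  obtain ⟨y, hy⟩ := Ext.contravariant_sequence_exact₃ hS L x hpe (n₀ := m) (add_comm 1 m)
  exact ⟨_, _, _, _, _, hS, y, hy.symm⟩

theorem rM_refl {A C B : Type*} [Category A] [Abelian A] [HasExt.{u + 1} A]
    [Category C] [Abelian C] [HasExt.{u + 1} C] [EnoughInjectives C]
    [Category B] [Abelian B] [HasExt.{u + 1} B] (T : A ⥤ C ⥤ B) (M : C)
    [(T.flip.obj M).Additive] [PreservesFiniteLimits (T.flip.obj M)]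
    [PreservesFiniteColimits (T.flip.obj M)] {K L : A} (m : ℕ) (x : Ext.{u + 1} K L m) :
    (rM T M (T.flip.obj M) (Iso.refl _) m x : Ext.{u + 1} _ _ m) =
      x.mapExactFunctor (T.flip.obj M) := by
  refine (Ext.comp_mk₀_id _).trans ?_
  exact Ext.mk₀_id_comp _

/-- The interchange law for the tensor product of sheaves of `Λ`-modules, `Λ` a field. -/
theorem tensor_interchange {K L M N : EtModW.Mod Λ X} {m n : ℕ} (x : Ext.{u + 1} K L m)
    (y : Ext.{u + 1} M N n) :
    (x.mapExactFunctor ((EtModD.tensorBi Λ X).flip.obj M)).comp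
      (y.mapExactFunctor ((EtModD.tensorBi Λ X).obj L)) (rfl : m + n = m + n) =
    ((-1 : ℤ) ^ (m * n)) • ((y.mapExactFunctor ((EtModD.tensorBi Λ X).obj K)).comp
      (x.mapExactFunctor ((EtModD.tensorBi Λ X).flip.obj N)) (add_comm n m)) := by
  have h := interchange (EtModD.tensorBi Λ X) (fun _ => True) (fun K _ => inferInstance)
    (fun {K L} m x _ => by
      obtain ⟨K', E, i, p, w, h, x', hx⟩ := exists_factor m x
      exact ⟨K', E, i, p, w, h, x', trivial, trivial, hx⟩)
    (fun {K' E K} i p w h _ _ _ M => by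
      have h1 := h.map_of_exact ((EtModD.tensorBi Λ X).flip.obj M)
      exact ⟨by rw [← NatTrans.comp_app, ← Functor.map_comp, w, Functor.map_zero]; rfl, h1⟩)
    ((EtModD.tensorBi Λ X).flip.obj M) ((EtModD.tensorBi Λ X).flip.obj N) (Iso.refl _) (Iso.refl _)
    y m (K := K) (L := L) trivial trivial x
  rw [rM_refl, rM_refl] at h
  exact h

variable {Λ X}

/-- **Graded commutativity** in all degrees. -/
theorem comm {m n : ℕ} (x : Ext.{u + 1} (un Λ X) (un Λ X) m) (y : Ext.{u + 1} (un Λ X) (un Λ X) n) :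
    x.comp y (rfl : m + n = m + n) = ((-1 : ℤ) ^ (m * n)) • (y.comp x (add_comm n m)) := by
  have hR := Etcore.ExtAdj.mapExactFunctor_nat (TensorUnit.tensorUnitRight Λ X).hom x
  have hL := Etcore.ExtAdj.mapExactFunctor_nat (tensorUnitLeft Λ X).hom y
  rw [Etcore.ExtAdj.mapExactFunctor_id] at hR hL
  have hiso : IsIso ((tensorUnitLeft Λ X).hom.app (un Λ X)) := inferInstance
  have hu := unitLeft_eq_unitRight (Λ := Λ) (X := X)
  have h := tensor_interchange Λ X x y
  refine CommAbs.comm_core ((tensorUnitLeft Λ X).hom.app (un Λ X)) rfl (add_comm n m)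
    ((-1 : ℤ) ^ (m * n)) x y _ _ ?_ hL h
  rw [hu]
  exact hR

end Groth.Agent.Sga4h.H914.TensComm
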