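import Groth.Agent.Sga5.H861.Res
import Groth.Agent.Sga4h.H914.TensComm
import Groth.Agent.Sga4h.H914.BilAbs

/-!
# The cohomology ring `H^*(X, Λ)` as a plain graded ring

`HR Λ X n = Ext^n(Λ_X, Λ_X)` behind a definition (so that no proof of `HasExt` occurs in the statements
about it), with `mul`, `one`, the inverse image `pb` and the basic laws.
-/

set_option autoImplicit false

universe u

open CategoryTheory CategoryTheory.Limits AlgebraicGeometry CategoryTheory.Abelian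

namespace Groth.Agent.Sga4h.H914

open Groth.Agent.Sga5.H861.Res TensComm
open scoped Groth.Agent.Sga4B.ModEtInst

variable (Λ : Type (u + 1)) [CommRing Λ] (X Y Z : Scheme.{u})

/-- `H^n(X, Λ)`. -/
def HR (n : ℕ) : Type (u + 1) := R Λ X n

noncomputable instance (n : ℕ) : AddCommGroup (HR Λ X n) := inferInstanceAs (AddCommGroup (R Λ X n))

namespace HR

variable {X Y Z}

/-- The class in `Ext`. -/
noncomputable def toR (n : ℕ) : HR Λ X n ≃+ R Λ X n := AddEquiv.refl _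

variable {Λ}

/-- The cup product. -/
noncomputable def mul {i j n : ℕ} (h : i + j = n) : HR Λ X i →+ HR Λ X j →+ HR Λ X n :=
  BilAbs.crA (A := HR Λ X i) (B := HR Λ X j) (toR Λ i).toAddMonoidHom (toR Λ j).toAddMonoidHom h

theorem toR_mul {i j n : ℕ} (h : i + j = n) (x : HR Λ X i) (y : HR Λ X j) :
    toR Λ n (mul h x y) = (toR Λ i x).comp (toR Λ j y) h := rfl

variable (Λ X) in
/-- The unit. -/
noncomputable def one : HR Λ X 0 := (Ext.mk₀ (𝟙 (FixPt.unit Λ X)) : R Λ X 0)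

theorem toR_one : toR Λ 0 (one Λ X) = Ext.mk₀ (𝟙 (FixPt.unit Λ X)) := rfl

/-- The inverse image. -/
noncomputable def pb (f : X ⟶ Y) (n : ℕ) : HR Λ Y n →+ HR Λ X n := res f n

theorem toR_pb (f : X ⟶ Y) (n : ℕ) (x : HR Λ Y n) : toR Λ n (pb f n x) = res f n (toR Λ n x) := rfl

theorem mul_one {i : ℕ} (x : HR Λ X i) : mul (add_zero i) x (one Λ X) = x :=
  Ext.comp_mk₀_id (x : R Λ X i)

theorem one_mul {i : ℕ} (x : HR Λ X i) : mul (zero_add i) (one Λ X) x = x :=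
  Ext.mk₀_id_comp (x : R Λ X i)

theorem mul_assoc {a b c ab bc abc : ℕ} (hab : a + b = ab) (hbc : b + c = bc) (habc : ab + c = abc)
    (habc' : a + bc = abc) (x : HR Λ X a) (y : HR Λ X b) (z : HR Λ X c) :
    mul habc (mul hab x y) z = mul habc' x (mul hbc y z) :=
  Ext.comp_assoc (x : R Λ X a) (y : R Λ X b) (z : R Λ X c) hab hbc (by omega)

theorem mul_comm [AllFlat Λ] {m n k : ℕ} (h : m + n = k) (h' : n + m = k) (x : HR Λ X m)
    (y : HR Λ X n) : mul h x y = ((-1 : ℤ) ^ (m * n)) • mul h' y x := by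
  subst h
  exact comm (x : R Λ X m) (y : R Λ X n)

theorem pb_mul (f : X ⟶ Y) {i j n : ℕ} (h : i + j = n) (x : HR Λ Y i) (y : HR Λ Y j) :
    pb f n (mul h x y) = mul h (pb f i x) (pb f j y) :=
  res_comp' f h (x : R Λ Y i) (y : R Λ Y j)

theorem pb_pb (f : X ⟶ Y) (g : Y ⟶ Z) (h : X ⟶ Z) (w : f ≫ g = h) (n : ℕ) (x : HR Λ Z n) :
    pb f n (pb g n x) = pb h n x :=
  res_res Λ f g h w n (x : R Λ Z n)

theorem pb_id (f : X ⟶ X) (hf : f = 𝟙 X) (n : ℕ) (x : HR Λ X n) : pb f n x = x :=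
  res_id f hf n (x : R Λ X n)

theorem pb_one (f : X ⟶ Y) : pb f 0 (one Λ Y) = one Λ X := by
  change res f 0 (Ext.mk₀ (𝟙 (FixPt.unit Λ Y)) : R Λ Y 0) = (Ext.mk₀ (𝟙 (FixPt.unit Λ X)) : R Λ X 0)
  rw [res_apply, Ext.mapExactFunctor_mk₀, CategoryTheory.Functor.map_id]
  refine (congrArg (fun t => Ext.comp t _ (add_zero 0)) (Ext.comp_mk₀_id _)).trans ?_
  rw [Ext.mk₀_comp_mk₀, Iso.inv_hom_id]

/-- The cross product `(a, b) ↦ p^*a · q^*b` for `p : T ⟶ X`, `q : T ⟶ Y`. -/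
noncomputable def cr {T : Scheme.{u}} (p : T ⟶ X) (q : T ⟶ Y) {n : ℕ} (i j : ℕ) (h : i + j = n) :
    HR Λ X i →+ HR Λ Y j →+ HR Λ T n :=
  AddMonoidHom.mk' (fun a => (mul h (pb p i a)).comp (pb q j))
    (fun a a' => AddMonoidHom.ext fun b => by
      change mul h (pb p i (a + a')) (pb q j b) = mul h (pb p i a) (pb q j b) + mul h (pb p i a') (pb q j b)
      rw [map_add, map_add, AddMonoidHom.add_apply])

theorem cr_apply {T : Scheme.{u}} (p : T ⟶ X) (q : T ⟶ Y) {n : ℕ} (i j : ℕ) (h : i + j = n)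
    (a : HR Λ X i) (b : HR Λ Y j) : cr p q i j h a b = mul h (pb p i a) (pb q j b) := rfl

/-- **Support property.** -/
theorem mul_eq_of_pb_eq {Z Y U : Scheme.{u}} (i : Z ⟶ Y) [IsClosedImmersion i] (j : U ⟶ Y)
    [IsOpenImmersion j] (hij : IsCompl (Set.range i) (Set.range j)) {l m n : ℕ} (h : l + m = n)
    (c : HR Λ Y m) (hc : pb j m c = 0) (α β : HR Λ Y l) (hαβ : pb i l α = pb i l β) :
    mul h α c = mul h β c :=
  mul_eq_of_res_eq i j hij h (c : R Λ Y m) hc (α : R Λ Y l) (β : R Λ Y l) hαβ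

end HR

end Groth.Agent.Sga4h.H914
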