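import Groth.Agent.Sga4h.H914.HR
import Mathlib.Algebra.Module.ZMod

/-!
# `HR Λ X i` is a `ℤ/ℓ`-module when `ℓ = 0` in `Λ`
-/

set_option autoImplicit false

universe u

open CategoryTheory CategoryTheory.Limits AlgebraicGeometry CategoryTheory.Abelian

namespace Groth.Agent.Sga4h.H914.HR

open Groth.Agent.Sga5.H861.Res
open scoped Groth.Agent.Sga4B.ModEtInst

variable (ℓ : ℕ) {Λ : Type (u + 1)} [CommRing Λ] (hℓ : (ℓ : Λ) = 0) {X : Scheme.{u}}

include hℓ in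
theorem nsmul_eq_zero (i : ℕ) (x : HR Λ X i) : ℓ • x = 0 := by
  have h : ℓ • (toR Λ i x) = 0 := by
    rw [← Nat.cast_smul_eq_nsmul Λ ℓ, hℓ, zero_smul]
  exact h

/-- The module structure. -/
@[reducible]
noncomputable def modZ (X : Scheme.{u}) (i : ℕ) : Module (ZMod ℓ) (HR Λ X i) :=
  AddCommGroup.zmodModule (nsmul_eq_zero ℓ hℓ i)

end Groth.Agent.Sga4h.H914.HR
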