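import Groth.Prelude.Def_SixF2
import Groth.Agent.Sga4h.TensorUnit

/-!
# `EtSix.unitMap` is the inverse of the unit isomorphism `A ⊗ Λ ≅ A`
-/

set_option autoImplicit false

universe u

open CategoryTheory CategoryTheory.Limits AlgebraicGeometry MonoidalCategory

namespace Groth.Agent.Sga4h.H914.UnitMap

open Groth.Agent.Sga4h.ModDTensor

variable {Λ : Type (u + 1)} [CommRing Λ] {X : Scheme.{u}}

theorem counit_unitMap (A : EtModW.Mod Λ X) :
    (sheafificationAdjunction X.smallEtaleTopology (ModuleCat.{u + 1} Λ)).counit.app A ≫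
      EtSix.unitMap A =
    (sh Λ X).map ((ρ_ ((inc Λ X).obj A)).inv ≫ ((inc Λ X).obj A ◁
      toSheafify X.smallEtaleTopology (𝟙_ (PMod Λ X)))) := by
  apply ((sheafificationAdjunction X.smallEtaleTopology (ModuleCat.{u + 1} Λ)).homEquiv _ _).injective
  rw [Adjunction.homEquiv_unit, Adjunction.homEquiv_unit]
  have h1 := (sheafificationAdjunction X.smallEtaleTopology
    (ModuleCat.{u + 1} Λ)).right_triangle_components A
  rw [Functor.map_comp]
  refine (Category.assoc _ _ _).symm.trans ?_
  refine (congrArg (fun t => t ≫ _) h1).trans ?_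
  refine (Category.id_comp _).trans ?_
  exact ((sheafificationAdjunction X.smallEtaleTopology (ModuleCat.{u + 1} Λ)).unit.naturality
    ((ρ_ ((inc Λ X).obj A)).inv ≫ ((inc Λ X).obj A ◁
      toSheafify X.smallEtaleTopology (𝟙_ (PMod Λ X)))))

theorem unitMap_comp (A : EtModW.Mod Λ X) :
    EtSix.unitMap A ≫ (TensorUnit.tensorUnitRight Λ X).hom.app A = 𝟙 A := by
  have hiso : IsIso ((sheafificationAdjunction X.smallEtaleTopology
    (ModuleCat.{u + 1} Λ)).counit.app A) := inferInstance
  rw [← cancel_epi ((sheafificationAdjunction X.smallEtaleTopology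
    (ModuleCat.{u + 1} Λ)).counit.app A)]
  refine (Category.assoc _ _ _).symm.trans ?_
  refine (congrArg (fun t => t ≫ _) (counit_unitMap A)).trans ?_
  change (sh Λ X).map ((ρ_ ((inc Λ X).obj A)).inv ≫ ((inc Λ X).obj A ◁
      toSheafify X.smallEtaleTopology (𝟙_ (PMod Λ X)))) ≫
    inv ((sh Λ X).map ((inc Λ X).obj A ◁ toSheafify X.smallEtaleTopology (𝟙_ (PMod Λ X)))) ≫
    (sh Λ X).map (ρ_ ((inc Λ X).obj A)).hom ≫ (sheafificationAdjunction X.smallEtaleTopology
        (ModuleCat.{u + 1} Λ)).counit.app A = _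
  rw [Functor.map_comp, Category.assoc, IsIso.hom_inv_id_assoc, ← Category.assoc,
    ← Functor.map_comp, Iso.inv_hom_id, CategoryTheory.Functor.map_id, Category.id_comp]
  exact (Category.comp_id _).symm

theorem unitMap_eq (A : EtModW.Mod Λ X) :
    EtSix.unitMap A = (TensorUnit.tensorUnitRight Λ X).inv.app A := by
  have h := unitMap_comp A
  rw [← cancel_mono ((TensorUnit.tensorUnitRight Λ X).hom.app A), h]
  exact ((TensorUnit.tensorUnitRight Λ X).inv_hom_id_app A).symm

end Groth.Agent.Sga4h.H914.UnitMap
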