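import Groth.Prelude.Def_SixF2
import Groth.Agent.Sga5.H861.Res
import Groth.Agent.Sga4h.H914.TensComm
import Groth.Agent.Sga4h.H914.UnitMap
import Groth.Agent.Sga4h.H914.CrossAbs

/-!
# The Künneth formula for the rings `R^*(X) = Ext^*(Λ_X, Λ_X)`

From the bijectivity of `EtSix.crossSum` for the constant sheaves: every class of `R^n(X ×_S Y)` is a sum of
products `p^*a · q^*b`, and functionals are prescribed on them.
-/

set_option autoImplicit false

universe u

open CategoryTheory CategoryTheory.Limits AlgebraicGeometry CategoryTheory.Abelian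

namespace Groth.Agent.Sga4h.H914.Kunn

open Groth.Agent.Sga4h.ModDTensor Groth.Agent.Sga5.H861.UnitComm Groth.Agent.Sga5.H861.Res TensComm
open scoped Groth.Agent.Sga4B.ModEtInst

variable (Λ : Type (u + 1)) [CommRing Λ] [AllFlat Λ] {X Y S : Scheme.{u}} (f : X ⟶ S) (g : Y ⟶ S)

omit [AllFlat Λ] in
/-- `Λ ⊠ Λ ≅ Λ`. -/
noncomputable def psi : EtSix.boxtimes Λ f g (un Λ X) (un Λ Y) ≅ un Λ (pullback f g) :=
  ((EtModD.tensorBi Λ (pullback f g)).mapIso (FixPt.pullUnit (Λ := Λ) (pullback.fst f g))).app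
      ((EtModW.pull Λ (pullback.snd f g)).obj (un Λ Y)) ≪≫
    ((EtModD.tensorBi Λ (pullback f g)).obj (un Λ (pullback f g))).mapIso
      (FixPt.pullUnit (Λ := Λ) (pullback.snd f g)) ≪≫
    (tensorUnitLeft Λ (pullback f g)).app (un Λ (pullback f g))

omit [AllFlat Λ] in
theorem psi_hom : (psi Λ f g).hom =
    ((EtModD.tensorBi Λ (pullback f g)).map (FixPt.pullUnit (Λ := Λ) (pullback.fst f g)).hom).app
      ((EtModW.pull Λ (pullback.snd f g)).obj (un Λ Y)) ≫
    ((EtModD.tensorBi Λ (pullback f g)).obj (un Λ (pullback f g))).map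
      (FixPt.pullUnit (Λ := Λ) (pullback.snd f g)).hom ≫
    (tensorUnitLeft Λ (pullback f g)).hom.app (un Λ (pullback f g)) := rfl

omit [AllFlat Λ] in
theorem unitMap_nat {A B : EtModW.Mod Λ X} (φ : A ⟶ B) :
    EtSix.unitMap A ≫ ((EtModD.tensorBi Λ X).map φ).app (un Λ X) = φ ≫ EtSix.unitMap B := by
  rw [UnitMap.unitMap_eq, UnitMap.unitMap_eq]
  exact ((TensorUnit.tensorUnitRight Λ X).inv.naturality φ).symm

omit [AllFlat Λ] in
theorem unitMap_unit : EtSix.unitMap (un Λ X) ≫ (tensorUnitLeft Λ X).hom.app (un Λ X) = 𝟙 _ := by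
  rw [unitLeft_eq_unitRight]
  exact UnitMap.unitMap_comp _

/-- The cross product of unit classes. -/
theorem cross_eq {i j n : ℕ} (h : i + j = n) (α : R Λ X i) (β : R Λ Y j) :
    (EtSix.cross Λ f g (un Λ X) (un Λ Y) i j h α β).comp (Ext.mk₀ (psi Λ f g).hom) (add_zero n) =
      (res (pullback.fst f g) i α).comp (res (pullback.snd f g) j β) h := by
  rw [psi_hom]
  exact CrossAbs.cross_abs _ _
    ((EtModD.tensorBi Λ (pullback f g)).map (FixPt.pullUnit (Λ := Λ) (pullback.fst f g)).hom)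
    (tensorUnitLeft Λ (pullback f g)).hom (EtSix.unitMap _) (EtSix.unitMap _)
    (FixPt.pullUnit (Λ := Λ) (pullback.fst f g)).hom (FixPt.pullUnit (Λ := Λ) (pullback.snd f g)).hom
    (unitMap_nat Λ _) (unitMap_unit Λ) h
    (EtSix.HModPull Λ (pullback.fst f g) (un Λ X) i α) (EtSix.HModPull Λ (pullback.snd f g) (un Λ Y) j β)

end Groth.Agent.Sga4h.H914.Kunn
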