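import Groth.Agent.Sga4h.H914.KunnG

/-!
# The Künneth formula for the rings `H^*(X, Λ)`, total form
-/

set_option autoImplicit false

universe u

open CategoryTheory CategoryTheory.Limits AlgebraicGeometry CategoryTheory.Abelian

namespace Groth.Agent.Sga4h.H914.Kunn

open Groth.Agent.Sga5.H861.UnitComm Groth.Agent.Sga5.H861.Res TensComm
open scoped Groth.Agent.Sga4B.ModEtInst

variable (Λ : Type (u + 1)) [CommRing Λ] [AllFlat Λ] {X Y S : Scheme.{u}} (f : X ⟶ S) (g : Y ⟶ S)

/-- **Künneth for `HR`.** -/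
theorem total_bijective (n : ℕ) (hK : Function.Bijective (EtSix.crossSum Λ f g (un Λ X) (un Λ Y) n)) :
    Function.Bijective (KunnAlg.total (n := n) (HR.cr (Λ := Λ) (pullback.fst f g) (pullback.snd f g))) := by
  refine totalG_bijective Λ _ _ n (KunnX.switch ?_ ?_ ?_ hK)
  all_goals rfl

end Groth.Agent.Sga4h.H914.Kunn
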