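import Groth.Agent.Sga4h.H914.KunnAlg
import Mathlib.Algebra.DirectSum.Module
import Mathlib.LinearAlgebra.TensorProduct.Map

/-!
# Transport of the total map along isomorphisms of the sources and of the target
-/

set_option autoImplicit false

open TensorProduct

namespace Groth.Agent.Sga4h.H914.KunnAlg

variable {A B A' B' : ℕ → Type*} [∀ i, AddCommGroup (A i)] [∀ i, AddCommGroup (B i)]
  [∀ i, AddCommGroup (A' i)] [∀ i, AddCommGroup (B' i)] {C C' : Type*} [AddCommGroup C] [AddCommGroup C']
  {n : ℕ} (cr : ∀ i j, i + j = n → A i →+ B j →+ C) (cr' : ∀ i j, i + j = n → A' i →+ B' j →+ C')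

/-- Transport of bijectivity along isomorphisms of the sources and of the target. -/
theorem bijective_transport (eA : ∀ i, A i ≃+ A' i) (eB : ∀ i, B i ≃+ B' i) (e : C →+ C')
    (he : Function.Bijective e)
    (hcr : ∀ i j (h : i + j = n) a b, cr' i j h (eA i a) (eB j b) = e (cr i j h a b))
    (h : Function.Bijective (total cr)) : Function.Bijective (total cr') := by
  let T : (DirectSum (Fin (n + 1)) fun i => A i ⊗[ℤ] B (n - i)) →+
      (DirectSum (Fin (n + 1)) fun i => A' i ⊗[ℤ] B' (n - i)) :=
    DirectSum.map fun i =>
      (TensorProduct.congr (eA i).toIntLinearEquiv (eB (n - i)).toIntLinearEquiv).toAddEquiv.toAddMonoidHom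
  have hT : Function.Bijective T := by
    constructor
    · exact DirectSum.map_injective _ |>.2 fun i => (TensorProduct.congr (eA i).toIntLinearEquiv
        (eB (n - i)).toIntLinearEquiv).injective
    · exact DirectSum.map_surjective _ |>.2 fun i => (TensorProduct.congr (eA i).toIntLinearEquiv
        (eB (n - i)).toIntLinearEquiv).surjective
  have h1 : (total cr').comp T = e.comp (total cr) := by
    apply DirectSum.addHom_ext
    intro i y
    change total cr' (T (DirectSum.of _ i y)) = e (total cr (DirectSum.of _ i y))
    rw [DirectSum.map_of, total, total, DirectSum.toAddMonoid_of, DirectSum.toAddMonoid_of]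
    induction y using TensorProduct.induction_on with
    | zero => rw [map_zero, map_zero, map_zero, map_zero]
    | tmul a b => exact hcr _ _ _ a b
    | add x y hx hy => rw [map_add, map_add, map_add, map_add, hx, hy]
  have h2 : Function.Bijective ((total cr').comp T) := by
    rw [h1]
    exact he.comp h
  exact (Function.Bijective.of_comp_iff _ hT).1 h2

end Groth.Agent.Sga4h.H914.KunnAlg
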