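import Groth.Agent.Etsix.H994.AbsCross
import Groth.Agent.Sga4h.H914.KunnAlg

/-!
# Bijectivity of the total cross product, for variable abelian structures
-/

set_option autoImplicit false

universe w v u

open CategoryTheory CategoryTheory.Limits CategoryTheory.Abelian

namespace Groth.Agent.Sga4h.H914.KunnX

open Groth.Agent.Etsix.H994

variable {C₁ C₂ D : Type u} [Category.{v} C₁] [Category.{v} C₂] [Category.{v} D]

/-- The total cross product is bijective. -/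
def CrBij [Abelian C₁] [Abelian C₂] [Abelian D] [HasExt.{w} C₁] [HasExt.{w} C₂] [HasExt.{w} D]
    (p : C₁ ⥤ D) [p.Additive] [PreservesFiniteLimits p] [PreservesFiniteColimits p]
    (q : C₂ ⥤ D) [q.Additive] [PreservesFiniteLimits q] [PreservesFiniteColimits q]
    {o₁ : C₁} {o₂ : C₂} {o : D} (e₁ : o ⟶ p.obj o₁) (e₂ : o ⟶ q.obj o₂) (K : C₁)
    (F : D ⥤ D) [F.Additive] [PreservesFiniteLimits F] [PreservesFiniteColimits F]
    (η : p.obj K ⟶ F.obj o) (L : C₂) (n : ℕ) : Prop :=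
  Function.Bijective (KunnAlg.total (n := n) (fun i j h => AbsCross.cr.{w} p q e₁ e₂ K F η L i j h))

/-- Change of the abelian structures. -/
theorem switch {a₁ a₁' : Abelian C₁} (h₁ : a₁ = a₁') {a₂ a₂' : Abelian C₂} (h₂ : a₂ = a₂')
    {a a' : Abelian D} (h₀ : a = a')
    {x₁ : @HasExt.{w} C₁ _ a₁} {x₁' : @HasExt.{w} C₁ _ a₁'} {x₂ : @HasExt.{w} C₂ _ a₂}
    {x₂' : @HasExt.{w} C₂ _ a₂'} {x : @HasExt.{w} D _ a} {x' : @HasExt.{w} D _ a'}
    {p : C₁ ⥤ D} {pa : @Functor.Additive C₁ D _ _ a₁.toPreadditive a.toPreadditive p}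
    {pa' : @Functor.Additive C₁ D _ _ a₁'.toPreadditive a'.toPreadditive p}
    {pl : PreservesFiniteLimits p} {pc : PreservesFiniteColimits p}
    {q : C₂ ⥤ D} {qa : @Functor.Additive C₂ D _ _ a₂.toPreadditive a.toPreadditive q}
    {qa' : @Functor.Additive C₂ D _ _ a₂'.toPreadditive a'.toPreadditive q}
    {ql : PreservesFiniteLimits q} {qc : PreservesFiniteColimits q}
    {o₁ : C₁} {o₂ : C₂} {o : D} {e₁ : o ⟶ p.obj o₁} {e₂ : o ⟶ q.obj o₂} {K : C₁}
    {F : D ⥤ D} {Fa : @Functor.Additive D D _ _ a.toPreadditive a.toPreadditive F}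
    {Fa' : @Functor.Additive D D _ _ a'.toPreadditive a'.toPreadditive F}
    {Fl : PreservesFiniteLimits F} {Fc : PreservesFiniteColimits F}
    {η : p.obj K ⟶ F.obj o} {L : C₂} {n : ℕ}
    (H : @CrBij.{w} C₁ C₂ D _ _ _ a₁ a₂ a x₁ x₂ x p pa pl pc q qa ql qc o₁ o₂ o e₁ e₂ K F Fa Fl Fc η L n) :
    @CrBij.{w} C₁ C₂ D _ _ _ a₁' a₂' a' x₁' x₂' x' p pa' pl pc q qa' ql qc o₁ o₂ o e₁ e₂ K F Fa' Fl Fc η L n := by
  subst h₁ h₂ h₀
  exact H

end Groth.Agent.Sga4h.H914.KunnX
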