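import Groth.Prelude.Def_SixF2
import Groth.Agent.Sga5.H861.Res
import Groth.Agent.Sga4h.H914.TensComm
import Groth.Agent.Sga4h.H914.UnitMap
import Groth.Agent.Sga4h.H914.CrossAbs
import Groth.Agent.Sga4h.H914.KunnX
import Groth.Agent.Sga4h.H914.HR
import Groth.Agent.Sga4h.H914.KunnTr

/-!
# The Künneth formula for the rings `H^*(X, Λ)`, from the abstract cross product

`totalG_bijective`: for `p : W ⟶ X`, `q : W ⟶ Y`, if the abstract total cross product of the unit sheaves is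
bijective (`KunnX.CrBij`), then so is the total map of `HR.cr p q`.
-/

set_option autoImplicit false

universe u

open CategoryTheory CategoryTheory.Limits AlgebraicGeometry CategoryTheory.Abelian

namespace Groth.Agent.Sga4h.H914.Kunn

open Groth.Agent.Sga4h.ModDTensor Groth.Agent.Sga5.H861.UnitComm Groth.Agent.Sga5.H861.Res TensComm
open scoped Groth.Agent.Sga4B.ModEtInst

section

variable (Λ : Type (u + 1)) [CommRing Λ] {X Y W : Scheme.{u}}

theorem unitMap_nat' {A B : EtModW.Mod Λ X} (φ : A ⟶ B) :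
    EtSix.unitMap A ≫ ((EtModD.tensorBi Λ X).map φ).app (un Λ X) = φ ≫ EtSix.unitMap B := by
  rw [UnitMap.unitMap_eq, UnitMap.unitMap_eq]
  exact ((TensorUnit.tensorUnitRight Λ X).inv.naturality φ).symm

theorem unitMap_unit' : EtSix.unitMap (un Λ X) ≫ (tensorUnitLeft Λ X).hom.app (un Λ X) = 𝟙 _ := by
  rw [unitLeft_eq_unitRight]
  exact UnitMap.unitMap_comp _

/-- `p^*Λ ⊗ q^*Λ ≅ Λ`. -/
noncomputable def psiG (p : W ⟶ X) (q : W ⟶ Y) :
    ((EtModD.tensorBi Λ W).obj ((EtModW.pull Λ p).obj (un Λ X))).obj ((EtModW.pull Λ q).obj (un Λ Y)) ≅ un Λ W :=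
  ((EtModD.tensorBi Λ W).mapIso (FixPt.pullUnit (Λ := Λ) p)).app ((EtModW.pull Λ q).obj (un Λ Y)) ≪≫
    ((EtModD.tensorBi Λ W).obj (un Λ W)).mapIso (FixPt.pullUnit (Λ := Λ) q) ≪≫
    (tensorUnitLeft Λ W).app (un Λ W)

theorem psiG_hom (p : W ⟶ X) (q : W ⟶ Y) : (psiG Λ p q).hom =
    ((EtModD.tensorBi Λ W).map (FixPt.pullUnit (Λ := Λ) p).hom).app ((EtModW.pull Λ q).obj (un Λ Y)) ≫
    ((EtModD.tensorBi Λ W).obj (un Λ W)).map (FixPt.pullUnit (Λ := Λ) q).hom ≫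
    (tensorUnitLeft Λ W).hom.app (un Λ W) := rfl

/-- The cross product of unit classes. -/
theorem crossG_eq [AllFlat Λ] (p : W ⟶ X) (q : W ⟶ Y) {i j n : ℕ} (h : i + j = n) (α : R Λ X i) (β : R Λ Y j) :
    (Etsix.H994.AbsCross.cr (EtModW.pull Λ p) (EtModW.pull Λ q)
      (EtSix.pullConstΛ Λ p).inv (EtSix.pullConstΛ Λ q).inv (un Λ X)
      ((EtModD.tensorBi Λ W).obj ((EtModW.pull Λ p).obj (un Λ X)))
      (EtSix.unitMap _) (un Λ Y) i j h α β).comp (Ext.mk₀ (psiG Λ p q).hom) (add_zero n) =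
      (res p i α).comp (res q j β) h := by
  rw [psiG_hom]
  exact CrossAbs.cross_abs _ _
    ((EtModD.tensorBi Λ W).map (FixPt.pullUnit (Λ := Λ) p).hom)
    (tensorUnitLeft Λ W).hom (EtSix.unitMap _) (EtSix.unitMap _)
    (FixPt.pullUnit (Λ := Λ) p).hom (FixPt.pullUnit (Λ := Λ) q).hom
    (unitMap_nat' Λ _) (unitMap_unit' Λ) h _ _

/-- The map induced by `K ⟶ Λ_W`. -/
noncomputable def eG {K : EtModW.Mod Λ W} (φ : K ⟶ un Λ W) (n : ℕ) :
    Ext.{u + 1} (un Λ W) K n →+ HR Λ W n :=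
  (HR.toR Λ n).symm.toAddMonoidHom.comp ((Ext.mk₀ φ).postcomp (un Λ W) (add_zero n))

theorem eG_bijective {K : EtModW.Mod Λ W} (φ : K ⟶ un Λ W) [IsIso φ] (n : ℕ) :
    Function.Bijective (eG Λ φ n) :=
  (HR.toR Λ n).symm.bijective.comp (Groth.Agent.Sga4B.ExtCmp.bijective_comp_mk₀ _ n)

theorem hcrG [AllFlat Λ] (p : W ⟶ X) (q : W ⟶ Y) {i j n : ℕ} (h : i + j = n) (a : R Λ X i) (b : R Λ Y j) :
    HR.cr (Λ := Λ) p q i j h ((HR.toR Λ i).symm a) ((HR.toR Λ j).symm b) =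
      eG Λ (psiG Λ p q).hom n (Etsix.H994.AbsCross.cr (EtModW.pull Λ p) (EtModW.pull Λ q)
      (EtSix.pullConstΛ Λ p).inv (EtSix.pullConstΛ Λ q).inv (un Λ X)
      ((EtModD.tensorBi Λ W).obj ((EtModW.pull Λ p).obj (un Λ X)))
      (EtSix.unitMap _) (un Λ Y) i j h a b) := by
  apply (HR.toR Λ n).injective
  rw [HR.cr_apply, HR.toR_mul, HR.toR_pb, HR.toR_pb, AddEquiv.apply_symm_apply, AddEquiv.apply_symm_apply]
  exact (crossG_eq Λ p q h a b).symm

theorem totalG_bijective [AllFlat Λ] (p : W ⟶ X) (q : W ⟶ Y) (n : ℕ)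
    (h : KunnX.CrBij (EtModW.pull Λ p) (EtModW.pull Λ q)
      (EtSix.pullConstΛ Λ p).inv (EtSix.pullConstΛ Λ q).inv (un Λ X)
      ((EtModD.tensorBi Λ W).obj ((EtModW.pull Λ p).obj (un Λ X)))
      (EtSix.unitMap _) (un Λ Y) n) :
    Function.Bijective (KunnAlg.total (n := n) (HR.cr (Λ := Λ) p q)) :=
  KunnAlg.bijective_transport _ (HR.cr (Λ := Λ) p q) (fun i => (HR.toR Λ i).symm) (fun j => (HR.toR Λ j).symm)
    (eG Λ (psiG Λ p q).hom n) (eG_bijective Λ _ n) (fun _ _ h a b => hcrG Λ p q h a b) h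

end

end Groth.Agent.Sga4h.H914.Kunn
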