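import Groth.Agent.Sga4h.H914.MainAbs
import Groth.Agent.Sga4h.H914.Basic
import Groth.Agent.Sga4h.H914.Kunn2
import Groth.Agent.Sga4h.H914.HRMod
import Groth.Agent.Sga4h.H556.GeoR
import Mathlib.AlgebraicGeometry.AlgClosed.Basic
import Mathlib.Algebra.Field.ULift

/-!
# The connected core of the Lefschetz formula, modulo Künneth, duality, purity and vanishing
-/

set_option autoImplicit false

universe u

open CategoryTheory CategoryTheory.Limits AlgebraicGeometry CategoryTheory.Abelian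

namespace Groth.Agent.Sga4h.H914.Main

open TensComm MainAbs

/-- A nonempty quasi-compact scheme locally of finite type over an algebraically closed field has a rational
point. -/
theorem exists_point {k : Type u} [Field k] [IsAlgClosed k] {X : Scheme.{u}} [Nonempty X]
    (p : X ⟶ Spec (CommRingCat.of k)) [IsProper p] : ∃ s : Spec (CommRingCat.of k) ⟶ X, s ≫ p = 𝟙 _ := by
  have hcs : CompactSpace X := QuasiCompact.compactSpace_of_compactSpace p
  obtain ⟨x, -, hx⟩ := IsClosed.exists_closed_singleton (isClosed_univ : IsClosed (Set.univ : Set X))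
    Set.univ_nonempty
  exact ⟨pointOfClosedPoint p x hx, pointOfClosedPoint_comp p x hx⟩

/-- **The connected core.** -/
theorem main {k : Type u} [Field k] [IsAlgClosed k] (ℓ : ℕ) [Fact ℓ.Prime] (hℓ : (ℓ : k) ≠ 0)
    (hP : H556.PurFrom.PurityStmt.{u}) {X : Scheme.{u}}
    (p : X ⟶ Spec (CommRingCat.of k)) [IsProper p] (d : ℕ) [SmoothOfRelativeDimension d p]
    [ConnectedSpace X] (hcons : H556.SimpleDat.Cons p (ZMod ℓ))
    (hK : ∀ n, Function.Bijective (EtSix.crossSum (ULift.{u + 1} (ZMod ℓ)) p p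
      (EtModW.constMod (ULift.{u + 1} (ZMod ℓ)) X (ULift.{u + 1} (ZMod ℓ)))
      (EtModW.constMod (ULift.{u + 1} (ZMod ℓ)) X (ULift.{u + 1} (ZMod ℓ))) n))
    (hvan : ∀ n, 2 * d < n → ∀ y : HR (ULift.{u + 1} (ZMod ℓ)) X n, y = 0)
    (hX : Dual (ULift.{u + 1} (ZMod ℓ)) ℓ X (2 * d))
    (hS : Dual (ULift.{u + 1} (ZMod ℓ)) ℓ (pullback p p) (2 * (d + d)))
    (f : X ⟶ X) (hf : f ≫ p = p) [IsFinite (FinFr.fixSchemeTo p f hf)] :
    FixPt.lefNum (FixPt.unit (ULift.{u + 1} (ZMod ℓ)) X)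
      (FixPt.endo f (FixPt.pullUnit (Λ := ULift.{u + 1} (ZMod ℓ)) f).hom) =
        (FinFr.fixCount p f hf : ULift.{u + 1} (ZMod ℓ)) := by
  have hΛ : ((ℓ : ℕ) : ULift.{u + 1} (ZMod ℓ)) = 0 := ULift.ext _ _ (ZMod.natCast_self ℓ)
  let iM : ∀ (Y : Scheme.{u}) (i : ℕ), Module (ZMod ℓ) (HR (ULift.{u + 1} (ZMod ℓ)) Y i) :=
    fun Y i => HR.modZ ℓ hΛ Y i
  obtain ⟨s₀, hs₀⟩ := exists_point p
  let O : (pullback p p).Opens := ⟨(Set.range (pullback.diagonal p))ᶜ,
    (pullback.diagonal p).isClosedEmbedding.isClosed_range.isOpen_compl⟩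
  obtain ⟨e, c, h1, h2, h3⟩ := main_abs ℓ (ULift.ringEquiv.{0, u + 1} (R := ZMod ℓ)).symm p
    (NS := 2 * (d + d)) (by ring) (fun n => Kunn.total_bijective (ULift.{u + 1} (ZMod ℓ)) p p n (hK n))
    (HR.exists_smul_one ℓ) (HR.one_ne_zero ℓ) hvan hX hS
    (fun i hi y => HR.eq_zero_of_sepClosed k i hi y) O rfl s₀ hs₀
  have hγ : f ≫ p = 𝟙 X ≫ p := by rw [hf, Category.id_comp]
  rw [h3 f (pullback.lift f (𝟙 X) hγ) (pullback.lift_fst _ _ _) (pullback.lift_snd _ _ _)]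
  have h4 := H556.GeoR.geo_R hℓ hP hcons O rfl (HR.toR _ _ c) h1
    (e.comp (HR.toR _ _).symm.toAddMonoidHom) h2 f hf (pullback.lift f (𝟙 X) hγ)
    (pullback.lift_fst _ _ _) (pullback.lift_snd _ _ _)
  have h5 := congrArg (ULift.ringEquiv.{0, u + 1} (R := ZMod ℓ)).symm h4
  rw [map_natCast] at h5
  exact h5

end Groth.Agent.Sga4h.H914.Main
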