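import Groth.Agent.Sga4h.H914.HR
import Groth.Agent.Sga4h.H915.TraceConv

/-!
# The Lefschetz number in terms of `HR`
-/

set_option autoImplicit false

universe u

open CategoryTheory CategoryTheory.Limits AlgebraicGeometry CategoryTheory.Abelian

namespace Groth.Agent.Sga4h.H914.Trace

open Groth.Agent.Sga5.H861.Res
open scoped Groth.Agent.Sga4B.ModEtInst

variable (ℓ : ℕ) {Λ : Type (u + 1)} [CommRing Λ] (σ : ZMod ℓ ≃+* Λ) {X : Scheme.{u}}
  [∀ i, Module (ZMod ℓ) (HR Λ X i)]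

/-- `FixPt.HM` and `HR`. -/
noncomputable def toHM (n : ℕ) : FixPt.HM Λ X (FixPt.unit Λ X) n ≃+ HR Λ X n := (HR.toR Λ n).symm

theorem toHM_smul (n : ℕ) (r : ZMod ℓ) (x : FixPt.HM Λ X (FixPt.unit Λ X) n) :
    toHM (Λ := Λ) (X := X) n (σ r • x) = r • toHM n x := by
  let _ : Module (ZMod ℓ) (FixPt.HM Λ X (FixPt.unit Λ X) n) := Module.compHom _ (σ : ZMod ℓ →+* Λ)
  exact ZMod.map_smul (toHM (Λ := Λ) (X := X) n).toAddMonoidHom r x

theorem trAdd_endo (f : X ⟶ X) (n : ℕ) :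
    FixPt.trAdd Λ (FixPt.HM Λ X (FixPt.unit Λ X) n)
      (FixPt.endo f (FixPt.pullUnit (Λ := Λ) f).hom n) =
    σ (LinearMap.trace (ZMod ℓ) (HR Λ X n) ((HR.pb f n).toZModLinearMap ℓ)) :=
  H915.TraceConv.trAdd_semi σ (toHM n) (toHM_smul ℓ σ n) ((HR.pb f n).toZModLinearMap ℓ)
    (FixPt.endo f (FixPt.pullUnit (Λ := Λ) f).hom n) (fun _ => rfl)

theorem lefNum_endo (f : X ⟶ X) (N : ℕ) (hvan : ∀ n, N < n → ∀ y : HR Λ X n, y = 0) :
    FixPt.lefNum (FixPt.unit Λ X) (FixPt.endo f (FixPt.pullUnit (Λ := Λ) f).hom) =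
      σ (∑ j ∈ Finset.range (N + 1), (-1 : ZMod ℓ) ^ j *
        LinearMap.trace (ZMod ℓ) (HR Λ X j) ((HR.pb f j).toZModLinearMap ℓ)) := by
  have h1 : ∀ n, (-1 : Λ) ^ n * FixPt.trAdd Λ (FixPt.HM Λ X (FixPt.unit Λ X) n)
      (FixPt.endo f (FixPt.pullUnit (Λ := Λ) f).hom n) =
      σ ((-1 : ZMod ℓ) ^ n *
        LinearMap.trace (ZMod ℓ) (HR Λ X n) ((HR.pb f n).toZModLinearMap ℓ)) := fun n => by
    rw [trAdd_endo ℓ σ f n, map_mul, map_pow, map_neg, map_one]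
  refine (finsum_congr h1).trans ?_
  rw [map_sum]
  refine finsum_eq_sum_of_support_subset _ fun n hn => ?_
  rw [Function.mem_support] at hn
  rw [Finset.coe_range, Set.mem_Iio]
  by_contra hn'
  apply hn
  have : Subsingleton (HR Λ X n) :=
    ⟨fun x y => (hvan n (by omega) x).trans (hvan n (by omega) y).symm⟩
  have h2 : (HR.pb (Λ := Λ) f n).toZModLinearMap ℓ = 0 := LinearMap.ext fun x => Subsingleton.elim _ _
  rw [h2, map_zero, mul_zero, map_zero]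

end Groth.Agent.Sga4h.H914.Trace
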