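import Groth.Agent.Sga4h.H914.Core
import Groth.Agent.Sga4h.H914.Trace
import Mathlib.AlgebraicGeometry.Morphisms.Proper

/-!
# The connected core of the Lefschetz formula, from duality, Künneth and the basic facts
(general coefficient ring isomorphic to `ℤ/ℓ`)
-/

set_option autoImplicit false

universe u

open CategoryTheory CategoryTheory.Limits AlgebraicGeometry CategoryTheory.Abelian

namespace Groth.Agent.Sga4h.H914.MainAbs

open Form TensComm Groth.Agent.Sga5.H861.UnitComm Groth.Agent.Sga5.H861.DualAbs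
open scoped Groth.Agent.Sga4B.ModEtInst

/-- Duality for all sheaves in top degree `N`. -/
def Dual (Λ : Type (u + 1)) [CommRing Λ] (ℓ : ℕ) (X : Scheme.{u}) (N : ℕ) : Prop :=
  ∃ t : Ext.{u + 1} (un Λ X) (un Λ X) N →+ ZMod ℓ,
    ∀ (q m : ℕ) (h : m + q = N) (F : EtModW.Mod Λ X), Function.Bijective
      (pair t h : Ext.{u + 1} F (un Λ X) q →+ (Ext.{u + 1} (un Λ X) F m →+ ZMod ℓ))

variable (ℓ : ℕ) [Fact ℓ.Prime] {Λ : Type (u + 1)} [CommRing Λ] {X : Scheme.{u}} {N : ℕ}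
  [∀ i, Module (ZMod ℓ) (HR Λ X i)]

theorem dual_inj (t : Ext.{u + 1} (un Λ X) (un Λ X) N →+ ZMod ℓ)
    (ht : ∀ (q m : ℕ) (h : m + q = N) (F : EtModW.Mod Λ X), Function.Bijective
      (pair t h : Ext.{u + 1} F (un Λ X) q →+ (Ext.{u + 1} (un Λ X) F m →+ ZMod ℓ)))
    (h0 : ∀ y : HR Λ X 0, ∃ r : ZMod ℓ, y = r • HR.one Λ X) (x : HR Λ X N)
    (hx : t (HR.toR Λ N x) = 0) : x = 0 := by
  rw [← Module.forall_dual_apply_eq_zero_iff (ZMod ℓ)]
  intro φ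
  obtain ⟨y, hy⟩ := (ht 0 N (add_zero N) (un Λ X)).2 (φ.toAddMonoidHom.comp (HR.toR Λ N).symm.toAddMonoidHom)
  obtain ⟨r, hr⟩ := h0 ((HR.toR Λ 0).symm y)
  have h1 : t (HR.toR Λ N (HR.mul (add_zero N) x ((HR.toR Λ 0).symm y))) = φ x :=
    DFunLike.congr_fun hy (HR.toR Λ N x)
  rw [hr] at h1
  have h2 : HR.mul (add_zero N) x (r • HR.one Λ X) = r • x := by
    rw [ZMod.map_smul, HR.mul_one]
  rw [h2] at h1
  rw [← h1]
  have h3 := ZMod.map_smul (t.comp (HR.toR Λ N).toAddMonoidHom) r x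
  refine h3.trans ?_
  change r • t (HR.toR Λ N x) = 0
  rw [hx, smul_zero]

theorem dual_surj (t : Ext.{u + 1} (un Λ X) (un Λ X) N →+ ZMod ℓ)
    (ht : ∀ (q m : ℕ) (h : m + q = N) (F : EtModW.Mod Λ X), Function.Bijective
      (pair t h : Ext.{u + 1} F (un Λ X) q →+ (Ext.{u + 1} (un Λ X) F m →+ ZMod ℓ)))
    (hone : HR.one Λ X ≠ 0) : ∃ a : HR Λ X N, t (HR.toR Λ N a) = 1 := by
  by_contra hcon
  push Not at hcon
  have h1 : ∀ a : HR Λ X N, t (HR.toR Λ N a) = 0 := by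
    intro a
    by_contra ha
    apply hcon ((t (HR.toR Λ N a))⁻¹ • a)
    have h3 := ZMod.map_smul (t.comp (HR.toR Λ N).toAddMonoidHom) (t (HR.toR Λ N a))⁻¹ a
    refine h3.trans ?_
    change (t (HR.toR Λ N a))⁻¹ • t (HR.toR Λ N a) = 1
    rw [smul_eq_mul, inv_mul_cancel₀ ha]
  apply hone
  apply (HR.toR Λ 0).injective
  rw [map_zero]
  apply (ht 0 N (add_zero N) (un Λ X)).1
  rw [map_zero]
  ext z
  exact (congrArg (fun w => t w) (HR.toR_mul (add_zero N) ((HR.toR Λ N).symm z) (HR.one Λ X)).symm).trans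
    (h1 _)

/-- **The connected core**, abstract form. -/
theorem main_abs [AllFlat Λ] (σ : ZMod ℓ ≃+* Λ) {k : Type u} [Field k]
    (p : X ⟶ Spec (CommRingCat.of k)) [IsSeparated p]
    [∀ i, Module (ZMod ℓ) (HR Λ (pullback p p) i)] {NS : ℕ} (hNS : N + N = NS)
    (hK : ∀ n, Function.Bijective (KunnAlg.total (n := n)
      (HR.cr (Λ := Λ) (pullback.fst p p) (pullback.snd p p))))
    (h0 : ∀ y : HR Λ X 0, ∃ r : ZMod ℓ, y = r • HR.one Λ X) (hone : HR.one Λ X ≠ 0)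
    (hvan : ∀ n, N < n → ∀ y : HR Λ X n, y = 0)
    (hX : Dual Λ ℓ X N) (hS : Dual Λ ℓ (pullback p p) NS)
    (hT : ∀ i, 0 < i → ∀ y : HR Λ (Spec (CommRingCat.of k)) i, y = 0)
    (O : (pullback p p).Opens) (hO : (O : Set ↥(pullback p p)) = (Set.range (pullback.diagonal p))ᶜ)
    (s₀ : Spec (CommRingCat.of k) ⟶ X) (hs₀ : s₀ ≫ p = 𝟙 _) :
    ∃ (e : HR Λ X N →+ ZMod ℓ) (c : HR Λ (pullback p p) N), HR.pb O.ι N c = 0 ∧
      (∀ (s : Spec (CommRingCat.of k) ⟶ X) (x : X ⟶ pullback p p) (_ : s ≫ p = 𝟙 _)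
        (_ : x ≫ pullback.fst p p = p ≫ s) (_ : x ≫ pullback.snd p p = 𝟙 X),
          e (HR.pb x N c) = 1) ∧
      ∀ (f : X ⟶ X) (γ : X ⟶ pullback p p), γ ≫ pullback.fst p p = f →
        γ ≫ pullback.snd p p = 𝟙 X →
        FixPt.lefNum (FixPt.unit Λ X) (FixPt.endo f (FixPt.pullUnit (Λ := Λ) f).hom) =
          σ (e (HR.pb γ N c)) := by
  obtain ⟨tX, htX⟩ := hX
  obtain ⟨tS, htS⟩ := hS
  have hj : IsCompl (Set.range (pullback.diagonal p)) (Set.range O.ι) := by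
    rw [Scheme.Opens.range_ι, hO]
    exact isCompl_compl
  obtain ⟨e, c, h1, h2, -, h4⟩ := Core.core ℓ (pullback.fst p p) (pullback.snd p p) hK hNS h0 hvan
    (tX.comp (HR.toR Λ N).toAddMonoidHom) (dual_inj ℓ tX htX h0) (dual_surj ℓ tX htX hone)
    (tS.comp (HR.toR Λ NS).toAddMonoidHom) (pullback.diagonal p) (pullback.diagonal_fst p)
    (pullback.diagonal_snd p) (htS N N hNS _).2 O.ι hj s₀ p
    (pullback.lift (p ≫ s₀) (𝟙 X) (by rw [Category.assoc, hs₀, Category.comp_id, Category.id_comp]))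
    (pullback.lift_fst _ _ _) (pullback.lift_snd _ _ _) hT
  refine ⟨e, c, h1, fun s x _ hx1 hx2 => h2 s p x hx1 hx2 hT, fun f γ hγ1 hγ2 => ?_⟩
  rw [← h4 f γ hγ1 hγ2]
  exact Trace.lefNum_endo ℓ σ f N hvan

end Groth.Agent.Sga4h.H914.MainAbs
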