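import Groth.Agent.Sga4h.H914.Form
import Groth.Agent.Sga4h.H914.Diag

/-!
# Slices of the class of the diagonal
-/

set_option autoImplicit false

universe u

open CategoryTheory CategoryTheory.Limits AlgebraicGeometry

namespace Groth.Agent.Sga4h.H914.Slice

open Form

variable (ℓ : ℕ) [Fact ℓ.Prime] {Λ : Type (u + 1)} [CommRing Λ] {X S : Scheme.{u}}
  (p q : S ⟶ X) [∀ i, Module (ZMod ℓ) (HR Λ X i)] [∀ i, Module (ZMod ℓ) (HR Λ S i)]
  {N : ℕ}

/-- The slices of a decomposable class. -/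
theorem exists_beta (c : HR Λ S N) (hdec : KunnAlg.Dec (n := N) (HR.cr (Λ := Λ) p q) c)
    (h0 : ∀ y : HR Λ X 0, ∃ r : ZMod ℓ, y = r • HR.one Λ X)
    (hvan : ∀ n, N < n → ∀ y : HR Λ X n, y = 0) :
    ∃ β : HR Λ X N, (∀ {T : Scheme.{u}} (t : T ⟶ X) (a : X ⟶ T) (s : X ⟶ S), s ≫ p = a ≫ t →
        s ≫ q = 𝟙 X → (∀ (i : ℕ), 0 < i → ∀ y : HR Λ T i, y = 0) → HR.pb s N c = β) ∧
      ∀ {n : ℕ} (h : N + N = n) (w : HR Λ X N),
        HR.mul h (HR.pb p N w) c = HR.mul h (HR.pb p N w) (HR.pb q N β) := by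
  obtain ⟨T', _, x, y, hxy⟩ := hdec
  choose r hr using h0
  refine ⟨∑ t : T' (LinAlg.pr (zero_add N)), r (x _ t) • y (LinAlg.pr (zero_add N)) t, ?_, ?_⟩
  · intro T t a s hsp hsq hT
    rw [hxy, map_sum, Finset.sum_eq_single (LinAlg.pr (zero_add N))]
    · rw [map_sum]
      refine Finset.sum_congr rfl fun t' _ => ?_
      rw [HR.cr_apply, HR.pb_mul, HR.pb_pb s p _ hsp, HR.pb_pb s q _ hsq, HR.pb_id _ rfl]
      have e1 : HR.pb (a ≫ t) 0 (x (LinAlg.pr (zero_add N)) t') =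
          r (x (LinAlg.pr (zero_add N)) t') • HR.one Λ X := by
        conv_lhs => rw [hr (x (LinAlg.pr (zero_add N)) t')]
        rw [ZMod.map_smul, HR.pb_one]
      refine (congrArg (fun z => HR.mul _ z (y (LinAlg.pr (zero_add N)) t')) e1).trans ?_
      change bil ℓ (HR.mul (zero_add N)) (r (x (LinAlg.pr (zero_add N)) t') • HR.one Λ X)
        (y (LinAlg.pr (zero_add N)) t') = _
      rw [map_smul, LinearMap.smul_apply, bil_apply, HR.one_mul]
    · rintro ⟨⟨i', j'⟩, hp⟩ _ hj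
      rw [Finset.mem_antidiagonal] at hp
      simp only at hp
      rw [map_sum]
      refine Finset.sum_eq_zero fun t' _ => ?_
      have hi : 0 < i' := by
        rcases Nat.eq_zero_or_pos i' with h | h
        · exfalso
          apply hj
          simp only [Subtype.mk.injEq, Prod.mk.injEq]
          omega
        · exact h
      rw [HR.cr_apply, HR.pb_mul, HR.pb_pb s p _ hsp, ← HR.pb_pb a t _ rfl,
        hT i' hi (HR.pb t i' _), map_zero, map_zero, AddMonoidHom.zero_apply]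
    · intro h
      exact absurd (Finset.mem_univ _) h
  · intro n h w
    rw [hxy, map_sum, Finset.sum_eq_single (LinAlg.pr (zero_add N)), map_sum, map_sum, map_sum]
    · refine Finset.sum_congr rfl fun t' _ => ?_
      rw [HR.cr_apply, ← HR.mul_assoc (ab := N) (add_zero N) (zero_add N) h h, ← HR.pb_mul]
      have e1 : HR.mul (add_zero N) w (x (LinAlg.pr (zero_add N)) t') =
          r (x (LinAlg.pr (zero_add N)) t') • w := by
        conv_lhs => rw [hr (x (LinAlg.pr (zero_add N)) t')]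
        refine (ZMod.map_smul (HR.mul (add_zero N) w) _ _).trans ?_
        rw [HR.mul_one]
      refine (congrArg (fun z => HR.mul h (HR.pb p N z) (HR.pb q _ (y (LinAlg.pr (zero_add N)) t')))
        e1).trans ?_
      rw [ZMod.map_smul (HR.pb p N), ZMod.map_smul (HR.pb q N)]
      change bil ℓ (HR.mul h) (r (x (LinAlg.pr (zero_add N)) t') • HR.pb p N w)
        (HR.pb q N (y (LinAlg.pr (zero_add N)) t')) = bil ℓ (HR.mul h) (HR.pb p N w)
          (r (x (LinAlg.pr (zero_add N)) t') • HR.pb q N (y (LinAlg.pr (zero_add N)) t'))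
      rw [map_smul, map_smul, LinearMap.smul_apply]
    · rintro ⟨⟨i', j'⟩, hp⟩ _ hj
      rw [Finset.mem_antidiagonal] at hp
      simp only at hp
      rw [map_sum]
      refine Finset.sum_eq_zero fun t' _ => ?_
      have hi : 0 < i' := by
        rcases Nat.eq_zero_or_pos i' with h | h
        · exfalso
          apply hj
          simp only [Subtype.mk.injEq, Prod.mk.injEq]
          omega
        · exact h
      rw [HR.cr_apply, ← HR.mul_assoc (ab := N + i') rfl hp (by omega) h, ← HR.pb_mul,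
        hvan (N + i') (by omega) (HR.mul rfl w _), map_zero, map_zero, AddMonoidHom.zero_apply]
    · intro h
      exact absurd (Finset.mem_univ _) h

/-- The normalised trace. -/
theorem exists_norm (c : HR Λ S N) (hdec : KunnAlg.Dec (n := N) (HR.cr (Λ := Λ) p q) c)
    (h0 : ∀ y : HR Λ X 0, ∃ r : ZMod ℓ, y = r • HR.one Λ X)
    (hvan : ∀ n, N < n → ∀ y : HR Λ X n, y = 0) (tX : HR Λ X N →+ ZMod ℓ)
    (hinj : ∀ x, tX x = 0 → x = 0) (hsurj : ∃ a, tX a = 1) {NS : ℕ} (h : N + N = NS)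
    (tS : HR Λ S NS →+ ZMod ℓ) (Δ : X ⟶ S) (hΔ : Δ ≫ p = 𝟙 X)
    (hc : ∀ α : HR Λ S N, tS (HR.mul h α c) = tX (HR.pb Δ N α)) :
    ∃ e : HR Λ X N →+ ZMod ℓ, Function.Bijective e ∧
      ∀ {T : Scheme.{u}} (t : T ⟶ X) (a : X ⟶ T) (s : X ⟶ S), s ≫ p = a ≫ t →
        s ≫ q = 𝟙 X → (∀ (i : ℕ), 0 < i → ∀ y : HR Λ T i, y = 0) → e (HR.pb s N c) = 1 := by
  obtain ⟨β, h1, h2⟩ := exists_beta ℓ p q c hdec h0 hvan
  obtain ⟨a, ha⟩ := hsurj
  have hβ : tX β ≠ 0 := by
    intro h3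
    have h4 := h2 h a
    rw [hinj β h3, map_zero, map_zero] at h4
    have h5 := hc (HR.pb p N a)
    rw [h4, map_zero, HR.pb_pb Δ p _ hΔ, HR.pb_id _ rfl, ha] at h5
    exact zero_ne_one h5
  let e : HR Λ X N →+ ZMod ℓ := (AddMonoidHom.mulLeft (tX β)⁻¹).comp tX
  have he : ∀ x, e x = (tX β)⁻¹ * tX x := fun x => rfl
  refine ⟨e, ⟨(injective_iff_map_eq_zero e).2 fun x hx => ?_, fun r => ?_⟩, ?_⟩
  · rw [he, mul_eq_zero] at hx
    exact hinj x (hx.resolve_left (inv_ne_zero hβ))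
  · refine ⟨(r * tX β) • a, ?_⟩
    rw [he, ZMod.map_smul, ha, smul_eq_mul, mul_one, mul_comm r, inv_mul_cancel_left₀ hβ]
  · intro T t a s hsp hsq hT
    rw [he, h1 t a s hsp hsq hT, inv_mul_cancel₀ hβ]

end Groth.Agent.Sga4h.H914.Slice
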