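import Groth.Agent.Sga4h.DualEt
import Groth.Agent.Sga5.H861.UnitComm
import Groth.Agent.Sga4h.H914.Interchange
import Groth.Agent.Sga4B.DualFormal

/-!
# Exactness of the tensor product over a field and graded commutativity of `Ext^*(Λ_X, Λ_X)`
-/

set_option autoImplicit false

universe u

open CategoryTheory CategoryTheory.Limits AlgebraicGeometry MonoidalCategory CategoryTheory.Abelian

namespace Groth.Agent.Sga4h.H914.TensExact

open Groth.Agent.Sga4h.ModDTensor

variable (Λ : Type (u + 1)) [Field Λ] (X : Scheme.{u})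

instance preservesFiniteLimits_tensorBi_obj (F : EtModW.Mod Λ X) :
    PreservesFiniteLimits ((EtModD.tensorBi Λ X).obj F) := by
  have h1 : PreservesFiniteLimits ((EtModD.tensorBi Λ X).obj ((sh Λ X).obj ((inc Λ X).obj F))) :=
    DualEt.preservesFiniteLimits_tensorBi _ (fun V => inferInstance)
  have e : (sh Λ X).obj ((inc Λ X).obj F) ≅ F :=
    asIso ((sheafificationAdjunction X.smallEtaleTopology (ModuleCat.{u + 1} Λ)).counit.app F)
  exact preservesFiniteLimits_of_natIso ((EtModD.tensorBi Λ X).mapIso e)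

instance preservesFiniteLimits_tensorBi_flip_obj (F : EtModW.Mod Λ X) :
    PreservesFiniteLimits ((EtModD.tensorBi Λ X).flip.obj F) :=
  preservesFiniteLimits_of_natIso (flipObjIso F).symm

open scoped Groth.Agent.Sga4B.ModEtInst

open Interchange Sga5.H861.UnitComm

/-- Every class of positive degree is a product with the class of an extension. -/
theorem exists_factor {A : Type*} [Category A] [Abelian A] [HasExt.{u + 1} A] [EnoughInjectives A]
    {K L : A} (m : ℕ) (x : Ext.{u + 1} K L (m + 1)) :
    ∃ (K' E : A) (i : K' ⟶ E) (p : E ⟶ K)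
    (w : i ≫ p = 0) (h : (ShortComplex.mk i p w).ShortExact) (x' : Ext.{u + 1} K' L m),
    x = h.extClass.comp x' (add_comm 1 m) := by
  obtain ⟨E, p, hp, hpe⟩ := Sga4B.DualFormal.exists_epi_kill m x
  have hS : (ShortComplex.mk _ _ (kernel.condition p)).ShortExact :=
    { exact := ShortComplex.exact_kernel p }
  obtain ⟨y, hy⟩ := Ext.contravariant_sequence_exact₃ hS L x hpe (n₀ := m) (add_comm 1 m)
  exact ⟨_, _, _, _, _, hS, y, hy.symm⟩

theorem rM_refl {A C B : Type*} [Category A] [Abelian A] [HasExt.{u + 1} A]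
    [Category C] [Abelian C] [HasExt.{u + 1} C] [EnoughInjectives C]
    [Category B] [Abelian B] [HasExt.{u + 1} B] (T : A ⥤ C ⥤ B) (M : C)
    [(T.flip.obj M).Additive] [PreservesFiniteLimits (T.flip.obj M)]
    [PreservesFiniteColimits (T.flip.obj M)] {K L : A} (m : ℕ) (x : Ext.{u + 1} K L m) :
    (rM T M (T.flip.obj M) (Iso.refl _) m x : Ext.{u + 1} _ _ m) =
      x.mapExactFunctor (T.flip.obj M) := by
  refine (Ext.comp_mk₀_id _).trans ?_
  exact Ext.mk₀_id_comp _

/-- The interchange law for the tensor product of sheaves of `Λ`-modules, `Λ` a field. -/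
theorem tensor_interchange {K L M N : EtModW.Mod Λ X} {m n : ℕ} (x : Ext.{u + 1} K L m)
    (y : Ext.{u + 1} M N n) :
    (x.mapExactFunctor ((EtModD.tensorBi Λ X).flip.obj M)).comp
      (y.mapExactFunctor ((EtModD.tensorBi Λ X).obj L)) (rfl : m + n = m + n) =
    ((-1 : ℤ) ^ (m * n)) • ((y.mapExactFunctor ((EtModD.tensorBi Λ X).obj K)).comp
      (x.mapExactFunctor ((EtModD.tensorBi Λ X).flip.obj N)) (add_comm n m)) := by
  have h := interchange (EtModD.tensorBi Λ X) (fun _ => True) (fun K _ => inferInstance)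
    (fun {K L} m x _ => by
      obtain ⟨K', E, i, p, w, h, x', hx⟩ := exists_factor m x
      exact ⟨K', E, i, p, w, h, x', trivial, trivial, hx⟩)
    (fun {K' E K} i p w h _ _ _ M => by
      have h1 := h.map_of_exact ((EtModD.tensorBi Λ X).flip.obj M)
      exact ⟨by rw [← NatTrans.comp_app, ← Functor.map_comp, w, Functor.map_zero]; rfl, h1⟩)
    ((EtModD.tensorBi Λ X).flip.obj M) ((EtModD.tensorBi Λ X).flip.obj N) (Iso.refl _) (Iso.refl _)
    y m (K := K) (L := L) trivial trivial x
  rw [rM_refl, rM_refl] at h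
  exact h

end Groth.Agent.Sga4h.H914.TensExact
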